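import Cfsg.Agent.Lib.Schur.Basic

/-!
# Lifts of elements in central extensions (helper70)
-/

set_option autoImplicit false

namespace Cfsg.Agent.J2Mult70

open scoped commutatorElement

universe u v
variable {E : Type u} [Group E] {H : Type v} [Group H] (σ : E →* H) (hc : σ.ker ≤ Subgroup.center E)
include hc

theorem central_of {k : E} (h : σ k = 1) (y : E) : Commute k y :=
  (Subgroup.mem_center_iff.mp (hc h) y).symm

theorem exists_eq_mul {x y : E} (h : σ x = σ y) : ∃ k, σ k = 1 ∧ x = y * k :=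
  ⟨y⁻¹ * x, by simp [h], by group⟩

/-- If the images of `u, v` commute with the image of `x`, then `x` commutes with any lift of
their commutator. -/
theorem commute_of_commutator {x y u v : E} (hu : Commute (σ x) (σ u)) (hv : Commute (σ x) (σ v))
    (hy : σ u * σ v * (σ u)⁻¹ * (σ v)⁻¹ = σ y) : Commute x y := by
  obtain ⟨k, hk, rfl⟩ := exists_eq_mul σ hc (x := y) (y := u * v * u⁻¹ * v⁻¹)
    (by simp [map_mul, map_inv, hy])
  refine Commute.mul_right ?_ (central_of σ hc hk x).symm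
  have fix : ∀ w : E, Commute (σ x) (σ w) → ∃ j, σ j = 1 ∧ x * w * x⁻¹ = w * j := fun w hw =>
    exists_eq_mul σ hc (by simp [map_mul, map_inv, hw.eq])
  obtain ⟨j, hj, hju⟩ := fix u hu
  obtain ⟨i, hi, hiv⟩ := fix v hv
  have hcomm : x * (u * v * u⁻¹ * v⁻¹) * x⁻¹ = u * v * u⁻¹ * v⁻¹ := by
    calc x * (u * v * u⁻¹ * v⁻¹) * x⁻¹
        = (x * u * x⁻¹) * (x * v * x⁻¹) * (x * u * x⁻¹)⁻¹ * (x * v * x⁻¹)⁻¹ := by group
      _ = ⁅u * j, v * i⁆ := by rw [hju, hiv, commutatorElement_def]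
      _ = ⁅u, v⁆ := Cfsg.Agent.Schur.commutatorElement_mul_central (hc hj) (hc hi) u v
      _ = u * v * u⁻¹ * v⁻¹ := commutatorElement_def u v
  exact mul_inv_eq_iff_eq_mul.mp hcomm

/-- A product of two involutions whose power lies in the kernel squares to one there. -/
theorem pow_sq_eq_one {x y : E} (hx : x * x = 1) (hy : y * y = 1) (m : ℕ)
    (h : σ ((x * y) ^ m) = 1) : (x * y) ^ m * (x * y) ^ m = 1 := by
  have hxi : x⁻¹ = x := inv_eq_of_mul_eq_one_right hx
  have hyi : y⁻¹ = y := inv_eq_of_mul_eq_one_right hy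
  have h1 : x * (x * y) ^ m * x⁻¹ = (x * y) ^ m := by
    rw [← (central_of σ hc h x).eq]; group
  have h2 : x * (x * y) * x⁻¹ = (x * y)⁻¹ := by
    rw [mul_inv_rev, hxi, hyi, ← mul_assoc, hx, one_mul]
  rw [← conj_pow, h2, inv_pow] at h1
  calc (x * y) ^ m * (x * y) ^ m = ((x * y) ^ m)⁻¹ * (x * y) ^ m := by rw [h1]
    _ = 1 := inv_mul_cancel _

theorem central_pow_mul {k : E} (h : σ k = 1) (x : E) (m : ℕ) : (x * k) ^ m = x ^ m * k ^ m :=
  (central_of σ hc h x).symm.mul_pow m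

end Cfsg.Agent.J2Mult70
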