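import Cfsg.Agent.J2Mult70.Lifts
import Cfsg.Prelude.Def_KGroupFacts

/-!
# The Schur multiplier of the Hall–Janko group has order at most two (helper70)
-/

set_option autoImplicit false
set_option maxRecDepth 100000

namespace Cfsg.Agent.J2Mult70

open Cfsg.Spor Cfsg.Agent.CosetEnum Cfsg.Agent.Steiner.J2
open scoped commutatorElement

universe u
variable {E : Type u} [Group E] (σ : E →* G)

theorem V_single (x : Gen) (l : ℕ) (h : genList[l]? = some x) :
    V [l] = (PresentedGroup.of x : G) := by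
  show pres.val l * 1 = _
  rw [mul_one]
  show letterVal genList _ l = _
  simp [letterVal, h]

/-- With the special pair of lifts commuting, a stem extension is an isomorphism. -/
theorem ker_eq_bot_of_commute (hσ : Cfsg.IsStemExtension σ)
    (hE : ∀ x y : E, σ x = V [4] → σ y = V (wW ++ [4] ++ wW.reverse) → Commute x y) :
    σ.ker = ⊥ := by
  obtain ⟨hsurj, hc, hder⟩ := hσ
  obtain ⟨a, b, c, d, e, ha, hb, hc', hd, he, haa, hbb, hcc, hdd, hee, cac, cad, cae, cbd, cbe, cce,
    hab, hbc, hcd, hde, hacd, hwe⟩ := exists_good σ hc hsurj hE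
  let v : Gen → E := fun x => match x with
    | .a => a | .b => b | .c => c | .d => d | .e => e
  have two : ∀ {x y : E}, Commute x y → x * x = 1 → y * y = 1 → (x * y) ^ 2 = 1 := by
    intro x y h h1 h2
    rw [h.mul_pow, sq, sq, h1, h2, one_mul]
  have swap : ∀ {x y : E} {m : ℕ}, (x * y) ^ m = 1 → (y * x) ^ m = 1 := by
    intro x y m h
    rw [show y * x = y * (x * y) * y⁻¹ by group, conj_pow, h, mul_one, mul_inv_cancel]
  have hrel : ∀ r ∈ coxRelators pres.edges ∪ {r | r ∈ pres.extra},
      FreeGroup.lift v r = 1 := by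
    rintro r (⟨x, -, y, -, rfl⟩ | hr)
    · rw [map_pow, map_mul, FreeGroup.lift_apply_of, FreeGroup.lift_apply_of]
      cases x <;> cases y <;>
        simp [v, coxLabel, pres, haa, hbb, hcc, hdd, hee, hab, hbc, hcd, hde, swap hab, swap hbc,
          swap hcd, swap hde, two cac haa hcc, two cad haa hdd, two cae haa hee, two cbd hbb hdd,
          two cbe hbb hee, two cce hcc hee, two cac.symm hcc haa, two cad.symm hdd haa,
          two cae.symm hee haa, two cbd.symm hdd hbb, two cbe.symm hee hbb, two cce.symm hee hcc]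
    · change r ∈ extra at hr
      simp only [extra, List.mem_cons, List.not_mem_nil, or_false] at hr
      rcases hr with rfl | rfl
      · simp [v, ← hacd]
      · simpa [v] using hwe
  let φ : G →* E := PresentedGroup.toGroup hrel
  have hsec : σ.comp φ = MonoidHom.id G := by
    refine PresentedGroup.ext fun x => ?_
    rw [MonoidHom.comp_apply, PresentedGroup.toGroup.of, MonoidHom.id_apply]
    cases x
    · exact ha.trans (V_single _ _ rfl)
    · exact hb.trans (V_single _ _ rfl)
    · exact hc'.trans (V_single _ _ rfl)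
    · exact hd.trans (V_single _ _ rfl)
    · exact he.trans (V_single _ _ rfl)
  have hs : ∀ g, σ (φ g) = g := fun g => DFunLike.congr_fun hsec g
  have hle : commutator E ≤ φ.range := by
    rw [commutator_def, Subgroup.commutator_le]
    intro x _ y _
    obtain ⟨k, hk, hx⟩ := exists_eq_mul σ hc (x := x) (y := φ (σ x)) (by rw [hs])
    obtain ⟨j, hj, hy⟩ := exists_eq_mul σ hc (x := y) (y := φ (σ y)) (by rw [hs])
    refine ⟨⁅σ x, σ y⁆, ?_⟩
    rw [map_commutatorElement]
    conv_rhs => rw [hx, hy]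
    exact (Cfsg.Agent.Schur.commutatorElement_mul_central (hc hk) (hc hj) _ _).symm
  rw [Subgroup.eq_bot_iff_forall]
  intro k hk
  obtain ⟨g, rfl⟩ := hle (hder hk)
  rw [MonoidHom.mem_ker, hs] at hk
  rw [hk, map_one]

/-- Every finite stem extension of the presented group has kernel of order at most two. -/
theorem card_ker_le_two (hσ : Cfsg.IsStemExtension σ) : Nat.card σ.ker ≤ 2 := by
  obtain ⟨hsurj, hc, hder⟩ := hσ
  obtain ⟨e, he⟩ := hsurj (V [4])
  obtain ⟨y, hy⟩ := hsurj (V (wW ++ [4] ++ wW.reverse))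
  have hcomm : Commute (σ e) (σ y) := by
    rw [he, hy]
    show V [4] * V _ = V _ * V [4]
    rw [← V_append, ← V_append]
    exact word_eq (by decide +kernel)
  have htk : σ ⁅e, y⁆ = 1 := by rw [map_commutatorElement]; exact hcomm.commutator_eq
  have hcen : ⁅e, y⁆ ∈ Subgroup.center E := hc htk
  let N : Subgroup E := Subgroup.zpowers ⁅e, y⁆
  have hNc : N ≤ Subgroup.center E := (Subgroup.zpowers_le).mpr hcen
  have hNn : N.Normal := ⟨fun n hn g => by
    rw [Subgroup.mem_center_iff.mp (hNc hn) g, mul_assoc, mul_inv_cancel, mul_one]; exact hn⟩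
  have hNk : N ≤ σ.ker := (Subgroup.zpowers_le).mpr htk
  let σ' : E ⧸ N →* G := QuotientGroup.lift N σ hNk
  have hmk : ∀ x : E, σ' (QuotientGroup.mk' N x) = σ x := fun x => rfl
  have hστ : Cfsg.IsStemExtension σ' := by
    refine ⟨fun g => ?_, fun q hq => ?_, fun q hq => ?_⟩
    · obtain ⟨x, hx⟩ := hsurj g; exact ⟨QuotientGroup.mk' N x, hx⟩
    · obtain ⟨x, rfl⟩ := QuotientGroup.mk'_surjective N q
      rw [MonoidHom.mem_ker, hmk] at hq
      rw [Subgroup.mem_center_iff]
      intro p
      obtain ⟨y, rfl⟩ := QuotientGroup.mk'_surjective N p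
      rw [← map_mul, ← map_mul, Subgroup.mem_center_iff.mp (hc hq) y]
    · obtain ⟨x, rfl⟩ := QuotientGroup.mk'_surjective N q
      rw [MonoidHom.mem_ker, hmk] at hq
      have := Subgroup.mem_map_of_mem (QuotientGroup.mk' N) (hder hq)
      rw [commutator_def, Subgroup.map_commutator] at this
      exact Subgroup.commutator_mono le_top le_top this
  have hbot : σ'.ker = ⊥ := by
    refine ker_eq_bot_of_commute σ' hστ fun p q hp hq => ?_
    obtain ⟨i, hi, rfl⟩ := exists_eq_mul σ' hστ.2.1 (x := p) (y := QuotientGroup.mk' N e)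
      (by rw [hp, hmk, he])
    obtain ⟨j, hj, rfl⟩ := exists_eq_mul σ' hστ.2.1 (x := q) (y := QuotientGroup.mk' N y)
      (by rw [hq, hmk, hy])
    refine commutatorElement_eq_one_iff_commute.mp ?_
    rw [Cfsg.Agent.Schur.commutatorElement_mul_central (hστ.2.1 hi) (hστ.2.1 hj),
      ← map_commutatorElement, QuotientGroup.mk'_apply, QuotientGroup.eq_one_iff]
    exact Subgroup.mem_zpowers _
  have hkN : σ.ker ≤ N := fun k hk => by
    have : QuotientGroup.mk' N k ∈ σ'.ker := hk
    rw [hbot, Subgroup.mem_bot, QuotientGroup.mk'_apply, QuotientGroup.eq_one_iff] at this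
    exact this
  have h2 : ⁅e, y⁆ ^ 2 = 1 := by
    have hee : σ (e * e) = 1 := by
      rw [map_mul, he, ← V_append]; exact word_eq (W := []) (by decide +kernel)
    have h1 : e * y * e⁻¹ = ⁅e, y⁆ * y := by rw [commutatorElement_def]; group
    have ht := Subgroup.mem_center_iff.mp hcen
    have h3 : e * e * y * (e * e)⁻¹ = y := by
      rw [(central_of σ hc hee y).eq]; group
    have h4 : e * e * y * (e * e)⁻¹ = ⁅e, y⁆ * ⁅e, y⁆ * y := by
      calc e * e * y * (e * e)⁻¹ = e * (e * y * e⁻¹) * e⁻¹ := by group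
        _ = e * ⁅e, y⁆ * (y * e⁻¹) := by rw [h1]; group
        _ = ⁅e, y⁆ * (e * y * e⁻¹) := by rw [ht e]; group
        _ = _ := by rw [h1, mul_assoc]
    rw [h3] at h4
    rw [sq]
    exact (mul_eq_right.mp h4.symm)
  have hfo : IsOfFinOrder ⁅e, y⁆ := isOfFinOrder_iff_pow_eq_one.mpr ⟨2, two_pos, h2⟩
  haveI : Finite N := Nat.finite_of_card_ne_zero
    (by rw [Nat.card_zpowers]; exact hfo.orderOf_pos.ne')
  refine le_trans (Subgroup.card_le_of_le hkN) ?_
  rw [Nat.card_zpowers]
  exact Nat.le_of_dvd two_pos (orderOf_dvd_of_pow_eq_one h2)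

/-- The multiplier is cyclic of order two as soon as a stem extension with kernel of order two is
given for an isomorphic copy. -/
theorem hasCyclicSchurMultiplier_two {H : Type} [Group H] (f : H ≃* G) {Γ : Type u} [Group Γ]
    [Finite Γ] (τ : Γ →* H) (hτ : Cfsg.IsStemExtension τ) (h2 : Nat.card τ.ker = 2) :
    Cfsg.HasCyclicSchurMultiplier H 2 := by
  haveI : Finite H := Finite.of_surjective τ hτ.1
  haveI : Fact (Nat.Prime 2) := ⟨Nat.prime_two⟩
  haveI : IsCyclic τ.ker := isCyclic_of_prime_card h2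
  have e : τ.ker ≃* Multiplicative (ZMod 2) :=
    mulEquivOfCyclicCardEq (by rw [h2, Nat.card_congr Multiplicative.toAdd, Nat.card_zmod])
  refine Cfsg.Agent.Schur.hasSchurMultiplier_of_card_le τ hτ e fun E _ _ σ hσ => ?_
  rw [Nat.card_congr Multiplicative.toAdd, Nat.card_zmod]
  obtain ⟨hs, hk⟩ := Cfsg.Agent.Schur.isStemExtension_comp_mulEquiv hσ f
  rw [← hk]
  exact card_ker_le_two _ hs

end Cfsg.Agent.J2Mult70
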