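import Cfsg.Agent.J2Mult70.Class

/-!
# The involutions commuting with the first generator (helper70)
-/

set_option autoImplicit false
set_option maxRecDepth 100000

namespace Cfsg.Agent.J2Mult70

open Cfsg.Agent.CosetEnum Cfsg.Agent.Steiner.J2

/-- The tuple of a code. -/
def decodeTup (e : ℕ) : Tup :=
  (⟨e / 6048 % 100, Nat.mod_lt _ (by decide)⟩, ⟨e / 96 % 63, Nat.mod_lt _ (by decide)⟩,
    ⟨e / 3 % 32, Nat.mod_lt _ (by decide)⟩, ⟨e % 3, Nat.mod_lt _ (by decide)⟩)

/-- The product with a given code, at a point. -/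
def codeApp (e p : ℕ) : ℕ :=
  elemApp (UP 3 (e % 3)) (UP 2 (e / 3 % 32)) (UP 1 (e / 96 % 63)) (UP 0 (e / 6048 % 100)) p

/-- The coded product commutes with the first generator, and is listed if it is an involution. -/
noncomputable def codeOK (e : ℕ) : Bool :=
  (base4.all fun p => Nat.beq (forceNat (codeApp e p) (app (clsP 0))) (codeApp e (app (clsP 0) p))) &&
    (!(base4.all fun p => Nat.beq (codeApp e (codeApp e p)) p) ||
      (base4.all fun p => Nat.beq (codeApp e p) p) ||
      Data.cenInv.any fun P => base4.all fun p => Nat.beq (codeApp e p) (app P p))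

theorem codes_ok : Data.cenCodes.all codeOK = true := by decide +kernel

/-- Strictly increasing and below a bound. -/
def incBelow (N : ℕ) : ℕ → List ℕ → Bool
  | _, [] => true
  | m, x :: xs => Nat.ble m x && Nat.blt x N && incBelow N (x + 1) xs

theorem incBelow_spec {N : ℕ} : ∀ {m : ℕ} {l : List ℕ}, incBelow N m l = true →
    l.Nodup ∧ ∀ x ∈ l, m ≤ x ∧ x < N
  | _, [], _ => ⟨List.nodup_nil, fun _ h => absurd h List.not_mem_nil⟩
  | m, x :: xs, h => by
    simp only [incBelow, Bool.and_eq_true] at h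
    obtain ⟨hn, hb⟩ := incBelow_spec h.2
    have h1 := Nat.le_of_ble_eq_true h.1.1
    refine ⟨List.nodup_cons.mpr ⟨fun hx => absurd (hb x hx).1 (by omega), hn⟩, fun y hy => ?_⟩
    rcases List.mem_cons.mp hy with rfl | hy
    · exact ⟨h1, Nat.le_of_ble_eq_true h.1.2⟩
    · exact ⟨by have := (hb y hy).1; omega, (hb y hy).2⟩

theorem codes_inc : incBelow 604800 0 Data.cenCodes = true := by decide +kernel

theorem codes_len : Data.cenCodes.length = 1920 := by decide +kernel

theorem codeApp_eq (e : ℕ) (i : Fin tbl.n) : codeApp e i = (act (F (decodeTup e)) i : ℕ) :=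
  elemApp_F (decodeTup e) i

theorem card_cen : Nat.card (Subgroup.centralizer ({V [0]} : Set G)) = 1920 := by
  haveI := Cfsg.Agent.Steiner.J2.finite
  have h := Subgroup.card_mul_index (Subgroup.centralizer ({V [0]} : Set G))
  have hi : (Subgroup.centralizer ({V [0]} : Set G)).index = 315 := by
    rw [Subgroup.centralizer_eq_comap_stabilizer]
    refine (Subgroup.index_comap_of_surjective (f := (ConjAct.toConjAct : G ≃* ConjAct G).toMonoidHom)
      _ (MulEquiv.surjective _)).trans ?_
    rw [MulAction.index_stabilizer, ← conjClass_card, ← Nat.card_coe_set_eq]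
    refine Nat.card_congr (Equiv.subtypeEquivRight fun x => ?_)
    rw [ConjAct.mem_orbit_conjAct, isConj_comm]
  rw [hi, show Nat.card G = 604800 from card_eq.1] at h
  omega

/-- An involution commuting with the first generator is listed. -/
theorem mem_cenInv {g : G} (hc : Commute g (V [0])) (h2 : g * g = 1) (h1 : g ≠ 1) :
    ∃ P ∈ Data.cenInv, ∀ k, app P (bp k) = (act g (bp k) : ℕ) := by
  haveI := Cfsg.Agent.Steiner.J2.finite
  obtain ⟨hnd, hb⟩ := incBelow_spec codes_inc
  have hA : IsPk (clsP 0) (V [0]) := isPk_of_pkWord cls_parts.1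
  have hok := List.all_eq_true.mp codes_ok
  have hcomm : ∀ e ∈ Data.cenCodes, F (decodeTup e) ∈ Subgroup.centralizer ({V [0]} : Set G) := by
    intro e he
    rw [Subgroup.mem_centralizer_singleton_iff]
    have h := hok e he
    rw [codeOK, Bool.and_eq_true, List.all_eq_true] at h
    refine eq_of_base fun k => Fin.ext ?_
    have h' := Nat.eq_of_beq_eq_true (h.1 _ (base4_mem k))
    rw [forceNat_eq, codeApp_eq e (bp k), hA, hA (bp k), codeApp_eq e _] at h'
    rw [act_mul, act_mul, Equiv.Perm.mul_apply, Equiv.Perm.mul_apply]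
    omega
  let f : {e // e ∈ Data.cenCodes.toFinset} → Subgroup.centralizer ({V [0]} : Set G) :=
    fun e => ⟨F (decodeTup e.1), hcomm _ (List.mem_toFinset.mp e.2)⟩
  have hf : Function.Bijective f := by
    refine (Nat.bijective_iff_injective_and_card f).mpr ⟨fun x y e => ?_, ?_⟩
    · have e' := F_bijective.1 (congrArg Subtype.val e)
      have hx := (hb x.1 (List.mem_toFinset.mp x.2)).2
      have hy := (hb y.1 (List.mem_toFinset.mp y.2)).2
      have a0 : x.1 / 6048 % 100 = y.1 / 6048 % 100 := congrArg (fun t : Tup => t.1.val) e'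
      have a1 : x.1 / 96 % 63 = y.1 / 96 % 63 := congrArg (fun t : Tup => t.2.1.val) e'
      have a2 : x.1 / 3 % 32 = y.1 / 3 % 32 := congrArg (fun t : Tup => t.2.2.1.val) e'
      have a3 : x.1 % 3 = y.1 % 3 := congrArg (fun t : Tup => t.2.2.2.val) e'
      exact Subtype.ext (by omega)
    · rw [card_cen, Nat.card_eq_fintype_card, Fintype.card_coe, List.toFinset_card_of_nodup hnd,
        codes_len]
  obtain ⟨e, he⟩ := hf.2 ⟨g, Subgroup.mem_centralizer_singleton_iff.mpr hc.eq⟩
  have heq : F (decodeTup e.1) = g := congrArg Subtype.val he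
  have h := hok e.1 (List.mem_toFinset.mp e.2)
  rw [codeOK, Bool.and_eq_true] at h
  simp only [Bool.or_eq_true] at h
  have happ : ∀ i : Fin tbl.n, codeApp e.1 i = (act g i : ℕ) := fun i => by
    rw [codeApp_eq, heq]
  rcases h.2 with (hh | hh) | hh
  · rw [Bool.not_eq_true', List.all_eq_false] at hh
    obtain ⟨p, hp, hne⟩ := hh
    refine absurd ?_ hne
    have hp' : p < tbl.n := by
      simp only [base4, List.mem_cons, List.not_mem_nil, or_false] at hp
      rcases hp with rfl | rfl | rfl | rfl <;> simp [tbl]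
    rw [happ ⟨p, hp'⟩, happ (act g ⟨p, hp'⟩), ← Equiv.Perm.mul_apply, ← act_mul, h2, act_one,
      Equiv.Perm.one_apply]
    exact Nat.beq_refl _
  · rw [List.all_eq_true] at hh
    exact absurd (eq_one_of_fix fun k => Fin.ext
      ((happ (bp k)).symm.trans (Nat.eq_of_beq_eq_true (hh _ (base4_mem k))))) h1
  · rw [List.any_eq_true] at hh
    obtain ⟨P, hP, hP'⟩ := hh
    rw [List.all_eq_true] at hP'
    exact ⟨P, hP, fun k => by rw [← happ, Nat.eq_of_beq_eq_true (hP' _ (base4_mem k))]⟩

end Cfsg.Agent.J2Mult70
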