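import Cfsg.Agent.J2Mult70.Candidates
import Cfsg.Agent.J2Mult70.Centraliser
import Cfsg.Agent.J2Mult70.Bound
import Cfsg.Agent.Lib.CosetEnum.Local

/-!
# The outer automorphism group of the Hall–Janko group has order two (helper70)
-/

set_option autoImplicit false
set_option maxRecDepth 100000

namespace Cfsg.Agent.J2Mult70

open Cfsg.Agent.CosetEnum Cfsg.Agent.Steiner.J2

theorem cenInvW_ok : allRange (fun j => pkWord (Data.cenInv.getD j 0) (Data.cenInvW.getD j [])) 0 131
    = true := by decide +kernel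

theorem exists_isPk_cenInv {P : ℕ} (hP : P ∈ Data.cenInv) : ∃ g, IsPk P g := by
  obtain ⟨j, hj, rfl⟩ := List.getElem_of_mem hP
  have hlen : Data.cenInv.length = 131 := by decide +kernel
  have := isPk_of_pkWord (allRange_spec cenInvW_ok j (Nat.zero_le _) (by omega))
  rw [List.getD_eq_getElem _ _ hj] at this
  exact ⟨_, this⟩

theorem cen_pk {g : G} (hc : Commute g (V [0])) (h2 : g * g = 1) (h1 : g ≠ 1) :
    ∃ P ∈ Data.cenInv, IsPk P g := by
  obtain ⟨P, hP, hb⟩ := mem_cenInv hc h2 h1
  obtain ⟨g', hg'⟩ := exists_isPk_cenInv hP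
  have : g' = g := eq_of_base fun k => Fin.ext ((hg' _).symm.trans (hb k))
  exact ⟨P, hP, this ▸ hg'⟩

theorem InCls.pk {g : G} (hg : InCls g) : ∃ P ∈ Data.cls, IsPk P g := by
  obtain ⟨k, hk, hp⟩ := hg
  have hk' : k < Data.cls.length := by rw [cls_length]; exact hk
  rw [clsP, List.getD_eq_getElem _ _ hk'] at hp
  exact ⟨_, List.getElem_mem _, hp⟩

theorem commB_of {X Y : ℕ} {g h : G} (hX : IsPk X g) (hY : IsPk Y h) (hc : Commute g h) :
    commB X Y = true := by
  rw [commB, List.all_eq_true]
  intro p hp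
  have hp' : p < tbl.n := by
    simp only [base4, List.mem_cons, List.not_mem_nil, or_false] at hp
    rcases hp with rfl | rfl | rfl | rfl <;> simp [tbl]
  rw [forceNat_eq, forceNat_eq, hX.mul hY ⟨p, hp'⟩, hY.mul hX ⟨p, hp'⟩, hc.eq]
  exact Nat.beq_refl _

theorem iterTwo_eq {X Y : ℕ} {g h : G} (hX : IsPk X g) (hY : IsPk Y h) (n : ℕ) (i : Fin tbl.n) :
    iterTwo X Y n i = (act ((g * h) ^ n) i : ℕ) := by
  induction n with
  | zero => rw [pow_zero, act_one]; rfl
  | succ n ih =>
    show forceNat (iterTwo X Y n i) (fun q => forceNat (app X q) (app Y)) = _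
    rw [forceNat_eq, forceNat_eq, ih, hX.mul hY, act_pow, act_pow, pow_succ',
      Equiv.Perm.mul_apply]

theorem powTwo_of {X Y : ℕ} {g h : G} (hX : IsPk X g) (hY : IsPk Y h) {n : ℕ}
    (hn : (g * h) ^ n = 1) : powTwo X Y n = true := by
  rw [powTwo, List.all_eq_true]
  intro p hp
  have hp' : p < tbl.n := by
    simp only [base4, List.mem_cons, List.not_mem_nil, or_false] at hp
    rcases hp with rfl | rfl | rfl | rfl <;> simp [tbl]
  rw [iterTwo_eq hX hY n ⟨p, hp'⟩, hn, act_one, Equiv.Perm.one_apply]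
  exact Nat.beq_refl _

theorem diffB_of {X Y : ℕ} {g h : G} (hX : IsPk X g) (hY : IsPk Y h) (hne : g ≠ h) :
    diffB X Y = true := by
  by_contra hf
  rw [diffB, List.any_eq_true] at hf
  refine hne (eq_of_base fun k => Fin.ext ?_)
  rw [← hX, ← hY]
  by_contra hne'
  refine hf ⟨_, base4_mem k, ?_⟩
  rw [Bool.not_eq_true']
  exact Bool.eq_false_iff.mpr fun h => hne' (Nat.eq_of_beq_eq_true h)

/-- All tuples. -/
noncomputable def tuples : List (ℕ × ℕ × ℕ × ℕ) :=
  candB.flatMap fun Y => (candC Y).flatMap fun C => (candD Y C).flatMap fun D =>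
    (candE Y C D).map fun E => (Y, C, D, E)

theorem tuples_length : tuples.length = countTuples := by
  simp [tuples, countTuples, List.length_flatMap]

/-- An automorphism sends the first generator into the class. -/
theorem inCls_map (φ : MulAut G) : InCls (φ (V [0])) := by
  have hw : V [2, 3, 2, 3] * V [2, 3, 2, 3] = V [0] := by
    rw [← V_append]; exact word_eq (by decide +kernel)
  have hne : V [0] ≠ 1 := by
    intro h
    have hp := isPk_of_pkWord cls_parts.1
    have h1 : app (clsP 0) (bp 0) = (bp 0 : ℕ) ∧ app (clsP 0) (bp 1) = (bp 1 : ℕ) ∧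
        app (clsP 0) (bp 2) = (bp 2 : ℕ) ∧ app (clsP 0) (bp 3) = (bp 3 : ℕ) := by
      refine ⟨?_, ?_, ?_, ?_⟩ <;> rw [hp, h, act_one, Equiv.Perm.one_apply]
    revert h1
    decide +kernel
  have h2 : φ (V [2, 3, 2, 3]) ^ 2 = φ (V [0]) := by rw [sq, ← map_mul, hw]
  rw [← h2]
  refine inCls_sq ?_ ?_
  · rw [show (4 : ℕ) = 2 * 2 from rfl, pow_mul, h2, sq, ← map_mul, V_sq (by norm_num), map_one]
  · rw [h2]
    exact fun h => hne (φ.injective (h.trans (map_one φ).symm))

theorem pair_rel : allRange (fun _ => sameAction (repWord [0, 1] 5) [] &&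
    sameAction (repWord [1, 2] 3) [] && sameAction (repWord [3, 4] 3) [] &&
    sameAction (repWord [2, 3] 4) [0] && sameAction [0, 2] [2, 0] && sameAction [0, 3] [3, 0] &&
    sameAction [0, 4] [4, 0] && sameAction [1, 3] [3, 1] && sameAction [1, 4] [4, 1] &&
    sameAction [2, 4] [4, 2] && sameAction ([0, 1, 0, 1] ++ [0] ++ [1, 0, 1, 0]) [1] &&
    sameAction ([1, 2] ++ [1] ++ [2, 1]) [2]) 0 1 = true := by
  decide +kernel

theorem moved : allRange (fun _ =>
    [([0], [1]), ([1], [2]), ([3], [4]), ([3], []), ([4], [])].all fun e =>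
      base4.any fun p => !Nat.beq (tbl.run e.1 p) (tbl.run e.2 p)) 0 1 = true := by
  decide +kernel

theorem V_ne {U W : List ℕ} (hU : ∀ l ∈ U, l < 5) (hW : ∀ l ∈ W, l < 5)
    (h : (base4.any fun p => !Nat.beq (tbl.run U p) (tbl.run W p)) = true) : V U ≠ V W := by
  intro e
  rw [List.any_eq_true] at h
  obtain ⟨p, hp, hne⟩ := h
  have hp' : p < tbl.n := by
    simp only [base4, List.mem_cons, List.not_mem_nil, or_false] at hp
    rcases hp with rfl | rfl | rfl | rfl <;> simp [tbl]
  have h1 := rep.hom_inv_apply nodup (W := U) hU ⟨p, hp'⟩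
  have h2 := rep.hom_inv_apply nodup (W := W) hW ⟨p, hp'⟩
  have h3 : tbl.run U p = tbl.run W p := by
    rw [← h1, ← h2]
    show (((rep.hom nodup (V U))⁻¹ ⟨p, hp'⟩ : Fin tbl.n) : ℕ) = _
    rw [e]
  rw [h3, Nat.beq_refl] at hne
  simp at hne

/-- The images of the generators form a listed tuple. -/
theorem exists_tuple (φ : MulAut G) (ha : φ (V [0]) = V [0]) : ∃ q ∈ tuples,
    IsPk q.1 (φ (V [1])) ∧ IsPk q.2.1 (φ (V [2])) ∧ IsPk q.2.2.1 (φ (V [3])) ∧
      IsPk q.2.2.2 (φ (V [4])) := by
  have hr := allRange_spec pair_rel 0 le_rfl (by norm_num)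
  simp only [Bool.and_eq_true] at hr
  obtain ⟨⟨⟨⟨⟨⟨⟨⟨⟨⟨⟨r1, r2⟩, r3⟩, r4⟩, r5⟩, r6⟩, r7⟩, r8⟩, r9⟩, r10⟩, r11⟩, r12⟩ := hr
  have hm := allRange_spec moved 0 le_rfl (by norm_num)
  simp only [List.all_cons, List.all_nil, Bool.and_true, Bool.and_eq_true] at hm
  obtain ⟨m1, m2, m3, m4, m5⟩ := hm
  have hA : IsPk A0 (φ (V [0])) := by rw [ha]; exact isPk_of_pkWord cls_parts.1
  have comm : ∀ {i j : ℕ}, sameAction [i, j] [j, i] = true → Commute (φ (V [i])) (φ (V [j])) := by
    intro i j h
    have h' := word_eq h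
    rw [show [i, j] = [i] ++ [j] from rfl, show [j, i] = [j] ++ [i] from rfl, V_append,
      V_append] at h'
    exact (show Commute (V [i]) (V [j]) from h').map φ
  have powr : ∀ {i j n : ℕ}, sameAction (repWord [i, j] n) [] = true →
      (φ (V [i]) * φ (V [j])) ^ n = 1 := by
    intro i j n h
    have h' := word_eq h
    rw [show V (repWord [i, j] n) = V [i, j] ^ n from evalWord_repWord _ _ _,
      show [i, j] = [i] ++ [j] from rfl, V_append] at h'
    rw [← map_mul, ← map_pow, h']
    exact map_one φ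
  have conjr : ∀ {U W : List ℕ} {i j : ℕ}, sameAction (U ++ [i] ++ W) [j] = true →
      V W = (V U)⁻¹ → InCls (φ (V [i])) → InCls (φ (V [j])) := by
    intro U W i j h hW hi
    rw [← word_eq h, V_append, V_append, map_mul, map_mul, hW, map_inv]
    exact hi.conj _
  have hb : InCls (φ (V [1])) := conjr r11
    (V_reverse [0, 1, 0, 1] (by decide +kernel)) (ha.symm ▸ inCls_a)
  have hc : InCls (φ (V [2])) := conjr r12 (V_reverse [1, 2] (by decide +kernel)) hb
  have sq1 : ∀ l < 5, φ (V [l]) * φ (V [l]) = 1 := fun l hl => by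
    rw [← map_mul, V_sq hl, map_one]
  have ne : ∀ {i j : ℕ}, V [i] ≠ V [j] → φ (V [i]) ≠ φ (V [j]) := fun h e => h (φ.injective e)
  have ne1 : ∀ {i : ℕ}, i < 5 →
      (base4.any fun p => !Nat.beq (tbl.run [i] p) (tbl.run [] p)) = true → φ (V [i]) ≠ 1 := by
    intro i hi h e
    exact V_ne (U := [i]) (W := []) (by simpa using hi) (by simp) h
      (φ.injective (e.trans (map_one φ).symm))
  obtain ⟨Y, hY, hYp⟩ := hb.pk
  obtain ⟨C, hC, hCp⟩ := hc.pk
  obtain ⟨D, hD, hDp⟩ := cen_pk (g := φ (V [3])) (ha ▸ (comm r6).symm) (sq1 3 (by norm_num))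
    (ne1 (by norm_num) m4)
  obtain ⟨E, hE, hEp⟩ := cen_pk (g := φ (V [4])) (ha ▸ (comm r7).symm) (sq1 4 (by norm_num))
    (ne1 (by norm_num) m5)
  refine ⟨(Y, C, D, E), ?_, hYp, hCp, hDp, hEp⟩
  simp only [tuples, List.mem_flatMap, List.mem_map]
  refine ⟨Y, ?_, C, ?_, D, ?_, E, ?_, rfl⟩
  · rw [candB, List.mem_filter]
    exact ⟨hY, by rw [diffB_of hA hYp (ne (V_ne (by simp) (by simp) m1)),
      powTwo_of hA hYp (powr r1)]; rfl⟩
  · rw [candC, List.mem_filter]
    exact ⟨hC, by rw [commB_of hA hCp (comm r5), diffB_of hYp hCp (ne (V_ne (by simp) (by simp) m2)),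
      powTwo_of hYp hCp (powr r2)]; rfl⟩
  · rw [candD, List.mem_filter]
    refine ⟨hD, ?_⟩
    rw [commB_of hYp hDp (comm r8), Bool.true_and, List.all_eq_true]
    intro p hp
    have hp' : p < tbl.n := by
      simp only [base4, List.mem_cons, List.not_mem_nil, or_false] at hp
      rcases hp with rfl | rfl | rfl | rfl <;> simp [tbl]
    have h4 : (φ (V [2]) * φ (V [3])) ^ 4 = φ (V [0]) := by
      have h' := word_eq r4
      rw [show V (repWord [2, 3] 4) = V [2, 3] ^ 4 from evalWord_repWord _ _ _,
        show [2, 3] = [2] ++ [3] from rfl, V_append] at h'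
      rw [← map_mul, ← map_pow, h']
    rw [iterTwo_eq hCp hDp 4 ⟨p, hp'⟩, h4, ← hA ⟨p, hp'⟩]
    exact Nat.beq_refl _
  · rw [candE, List.mem_filter]
    exact ⟨hE, by rw [commB_of hYp hEp (comm r9), commB_of hCp hEp (comm r10),
      diffB_of hDp hEp (ne (V_ne (by simp) (by simp) m3)), powTwo_of hDp hEp (powr r3)]; rfl⟩

theorem ext_gen {φ ψ : MulAut G} (h : ∀ l < 5, φ (V [l]) = ψ (V [l])) : φ = ψ := by
  refine MulEquiv.toMonoidHom_injective (PresentedGroup.ext fun x => ?_)
  show φ (PresentedGroup.of x) = ψ (PresentedGroup.of x)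
  cases x
  · rw [← V_single .a 0 rfl]; exact h 0 (by norm_num)
  · rw [← V_single .b 1 rfl]; exact h 1 (by norm_num)
  · rw [← V_single .c 2 rfl]; exact h 2 (by norm_num)
  · rw [← V_single .d 3 rfl]; exact h 3 (by norm_num)
  · rw [← V_single .e 4 rfl]; exact h 4 (by norm_num)

theorem card_stab_le : Nat.card (MulAction.stabilizer (MulAut G) (V [0])) ≤ 3840 := by
  classical
  have h : ∀ φ : MulAction.stabilizer (MulAut G) (V [0]), ∃ q ∈ tuples,
      IsPk q.1 (φ.1 (V [1])) ∧ IsPk q.2.1 (φ.1 (V [2])) ∧ IsPk q.2.2.1 (φ.1 (V [3])) ∧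
        IsPk q.2.2.2 (φ.1 (V [4])) :=
    fun φ => exists_tuple φ.1 φ.2
  choose q hq1 hq2 using h
  let f : MulAction.stabilizer (MulAut G) (V [0]) → {x // x ∈ tuples.toFinset} :=
    fun φ => ⟨q φ, List.mem_toFinset.mpr (hq1 φ)⟩
  have hf : Function.Injective f := by
    intro φ ψ e
    have e' : q φ = q ψ := congrArg Subtype.val e
    obtain ⟨a1, a2, a3, a4⟩ := hq2 φ
    obtain ⟨b1, b2, b3, b4⟩ := hq2 ψ
    rw [← e'] at b1 b2 b3 b4
    refine Subtype.ext (ext_gen fun l hl => ?_)
    interval_cases l
    · exact φ.2.trans ψ.2.symm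
    · exact isPk_unique a1 b1
    · exact isPk_unique a2 b2
    · exact isPk_unique a3 b3
    · exact isPk_unique a4 b4
  refine le_trans (Nat.card_le_card_of_injective f hf) ?_
  rw [Nat.card_eq_fintype_card, Fintype.card_coe]
  refine le_trans (List.toFinset_card_le _) ?_
  rw [tuples_length]
  exact Nat.le_of_ble_eq_true countTuples_le

theorem card_mulAut_le : Nat.card (MulAut G) ≤ 1209600 := by
  haveI := Cfsg.Agent.Steiner.J2.finite
  have h := Subgroup.card_mul_index (MulAction.stabilizer (MulAut G) (V [0]))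
  have horb : (MulAction.stabilizer (MulAut G) (V [0])).index ≤ 315 := by
    rw [MulAction.index_stabilizer, ← conjClass_card, ← Nat.card_coe_set_eq]
    refine Nat.card_le_card_of_injective
      (fun x => ⟨x.1, ?_⟩) (fun x y e => Subtype.ext (congrArg Subtype.val e :))
    obtain ⟨φ, hφ⟩ := x.2
    rw [← hφ]
    exact inCls_isConj (inCls_map φ)
  rw [← h]
  exact (Nat.mul_le_mul card_stab_le horb).trans (by norm_num)

/-- The images of the generators under the outer automorphism. -/
noncomputable def outerVal (l : ℕ) : G := locVal pres.val Data.outerW l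

theorem outer_rel : pres.relWords.all (fun W =>
    sameAction (expand Data.outerW W) []) = true := by decide +kernel

theorem outer_val : letterVal genList (fun x : Gen => outerVal (genList.idxOf x)) = outerVal := by
  funext l
  rcases lt_or_ge l 5 with hl | hl
  · interval_cases l <;> rfl
  · rw [outerVal, locVal, List.getD_eq_default _ _ (by simpa [Data.outerW, Data.outerWc0] using hl)]
    simp [letterVal, genList, List.getElem?_eq_none_iff.mpr, hl, evalWord]

/-- The outer automorphism as a homomorphism. -/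
noncomputable def outerHom : G →* G :=
  PresentedGroup.toGroup (f := fun x : Gen => outerVal (genList.idxOf x))
    (pres.kills _ fun W hW => by
      show evalWord (letterVal genList _) W = 1
      rw [outer_val, show outerVal = locVal pres.val Data.outerW from rfl, evalWord_locVal]
      have := word_eq (List.all_eq_true.mp outer_rel W hW)
      exact this)

theorem outerHom_gen {l : ℕ} (hl : l < 5) : outerHom (V [l]) = V (Data.outerW.getD l []) := by
  interval_cases l
  · rw [V_single .a 0 rfl, outerHom, PresentedGroup.toGroup.of]; rfl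
  · rw [V_single .b 1 rfl, outerHom, PresentedGroup.toGroup.of]; rfl
  · rw [V_single .c 2 rfl, outerHom, PresentedGroup.toGroup.of]; rfl
  · rw [V_single .d 3 rfl, outerHom, PresentedGroup.toGroup.of]; rfl
  · rw [V_single .e 4 rfl, outerHom, PresentedGroup.toGroup.of]; rfl

theorem outerHom_bijective : Function.Bijective outerHom := by
  haveI := Cfsg.Agent.Steiner.J2.finite
  haveI := Cfsg.Agent.Steiner.J2.simple
  rw [← Finite.injective_iff_bijective, ← MonoidHom.ker_eq_bot_iff]
  refine (IsSimpleGroup.eq_bot_or_eq_top_of_normal _ (MonoidHom.normal_ker outerHom)).resolve_right ?_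
  intro h
  have h1 : outerHom (V [4]) = 1 := by
    rw [← MonoidHom.mem_ker, h]; exact Subgroup.mem_top _
  rw [outerHom_gen (by norm_num)] at h1
  have hm := allRange_spec moved 0 le_rfl (by norm_num)
  simp only [List.all_cons, List.all_nil, Bool.and_true, Bool.and_eq_true] at hm
  exact V_ne (U := Data.outerW.getD 4 []) (W := []) (by decide +kernel) (by simp)
    (by decide +kernel) h1

/-- A transposition of points. -/
def swapN (e : ℕ × ℕ) : Equiv.Perm (Fin 100) := Equiv.swap (Fin.ofNat 100 e.1) (Fin.ofNat 100 e.2)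

/-- The normalising permutation. -/
def normPerm : Equiv.Perm (Fin 100) := (Data.normSwaps.map swapN).prod

theorem normPerm_sign : Equiv.Perm.sign normPerm = -1 := by
  rw [normPerm, Equiv.Perm.sign_prod_list_swap]
  · rw [List.length_map, show Data.normSwaps.length = 69 by decide +kernel]; decide
  · intro g hg
    obtain ⟨e, he, rfl⟩ := List.mem_map.mp hg
    refine ⟨_, _, ?_, rfl⟩
    have : ∀ e ∈ Data.normSwaps, Fin.ofNat 100 e.1 ≠ Fin.ofNat 100 e.2 := by decide +kernel
    exact this e he

theorem normPerm_table : ∀ i : Fin 100, (normPerm i : ℕ) = Data.normaliser.getD i.val 0 := by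
  decide +kernel

/-- The normalising permutation on the points of the table. -/
def normT : Equiv.Perm (Fin tbl.n) := normPerm

theorem normT_sign : Equiv.Perm.sign normT = -1 := normPerm_sign

theorem normT_table (i : Fin tbl.n) : (normT i : ℕ) = Data.normaliser.getD i.val 0 :=
  normPerm_table i

theorem normaliser_rel : allRange (fun l => allRange (fun i =>
    Nat.beq (Data.normaliser.getD (tbl.at' i l) 0)
      (tbl.run (Data.outerW.getD l []) (Data.normaliser.getD i 0))) 0 100) 0 5 = true := by
  decide +kernel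

theorem stab_fix_only : allRange (fun i =>
    ws.any fun W => !Nat.beq (tbl.run W i) i) 1 99 = true := by
  decide +kernel

theorem outer_not_inner (g : G) : MulEquiv.ofBijective outerHom outerHom_bijective ≠ MulAut.conj g := by
  intro he
  haveI := Cfsg.Agent.Steiner.J2.finite
  haveI := Cfsg.Agent.Steiner.J2.simple
  let σ : Equiv.Perm (Fin tbl.n) := act g * normT
  have hgen : ∀ l < 5, Commute σ (act (V [l])) := by
    intro l hl
    refine Equiv.ext fun i => ?_
    show act g (normT (act (V [l]) i)) = act (V [l]) (act g (normT i))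
    have h1 : act (V (Data.outerW.getD l [])) (normT i) = normT (act (V [l]) i) := by
      apply Fin.ext
      have hlt : ∀ x ∈ Data.outerW.getD l [], x < tbl.nl := by
        have : ∀ m < 5, ∀ x ∈ Data.outerW.getD m [], x < 5 := by decide +kernel
        exact this l hl
      show (((rep.hom nodup (V (Data.outerW.getD l [])))⁻¹ (normT i) : Fin tbl.n) : ℕ) = _
      rw [rep.hom_inv_apply nodup hlt]
      have hi : i.val < 0 + 100 := by have h2 : i.val < 100 := i.2; omega
      have h := Nat.eq_of_beq_eq_true (allRange_spec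
        (allRange_spec normaliser_rel l (Nat.zero_le _) (by omega)) i.val (Nat.zero_le _) hi)
      rw [normT_table i, normT_table (act (V [l]) i), act_letter hl i, h]
    have h2 : V (Data.outerW.getD l []) = g * V [l] * g⁻¹ := by
      rw [← outerHom_gen hl]
      exact DFunLike.congr_fun he (V [l])
    rw [← h1, h2, act_mul, act_mul, act_inv]
    show act g ((act g)⁻¹ _) = _
    rw [Equiv.Perm.coe_inv, Equiv.apply_symm_apply]
    rfl
  have hall : ∀ x : G, Commute σ (act x) := by
    intro x
    have hx : x ∈ Subgroup.closure (pres.val '' Set.Iio pres.gens.length) := by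
      rw [pres.closure_val]; exact Subgroup.mem_top _
    induction hx using Subgroup.closure_induction with
    | mem y hy =>
      obtain ⟨l, hl, rfl⟩ := hy
      rw [show pres.val l = V [l] from (mul_one _).symm]
      exact hgen l hl
    | one => rw [act_one]; exact Commute.one_right _
    | mul y z _ _ hy hz => rw [act_mul]; exact hz.mul_right hy
    | inv y _ hy => rw [act_inv]; exact hy.inv_right
  have h0 : σ rep.base = rep.base := by
    by_contra hne
    have hi : 1 ≤ (σ rep.base).val :=
      Nat.one_le_iff_ne_zero.mpr fun h => hne (Fin.ext h)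
    have h := allRange_spec stab_fix_only _ hi
      (by have h2 : (σ rep.base).val < 100 := (σ rep.base).2; omega)
    rw [List.any_eq_true] at h
    obtain ⟨W, hW, hne'⟩ := h
    have hlt : ∀ x ∈ W, x < tbl.nl := by
      have : ∀ U ∈ ws, ∀ x ∈ U, x < 5 := by decide +kernel
      exact this W hW
    have hfix : act (V W) rep.base = rep.base := by
      apply Fin.ext
      show (((rep.hom nodup (V W))⁻¹ rep.base : Fin tbl.n) : ℕ) = _
      rw [rep.hom_inv_apply nodup hlt]
      exact Nat.eq_of_beq_eq_true (List.all_eq_true.mp ws_fix W hW)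
    have hc : σ (act (V W) rep.base) = act (V W) (σ rep.base) :=
      Equiv.Perm.ext_iff.mp (hall (V W)).eq rep.base
    rw [hfix] at hc
    have hc' := congrArg Fin.val hc.symm
    rw [show (act (V W) (σ rep.base) : ℕ) = tbl.run W (σ rep.base).val from
      rep.hom_inv_apply nodup hlt _] at hc'
    rw [hc', Nat.beq_refl] at hne'
    simp at hne'
  have hσ : σ = 1 := by
    refine Equiv.ext fun i => ?_
    obtain ⟨x, hx⟩ := rep.transitive nodup descend i
    have hx' : act x⁻¹ rep.base = i := by rw [act_inv, act, inv_inv]; exact hx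
    have hc : σ (act x⁻¹ rep.base) = act x⁻¹ (σ rep.base) :=
      Equiv.Perm.ext_iff.mp (hall x⁻¹).eq rep.base
    rw [h0, hx'] at hc
    exact hc
  let s : G →* ℤˣ := Equiv.Perm.sign.comp (rep.hom nodup)
  have hs : ∀ x, s x = 1 := by
    intro x
    rcases IsSimpleGroup.eq_bot_or_eq_top_of_normal _ (MonoidHom.normal_ker s) with h | h
    · have hinj := (MonoidHom.ker_eq_bot_iff s).mp h
      have := Nat.card_le_card_of_injective s hinj
      rw [show Nat.card G = 604800 from card_eq.1, Nat.card_eq_fintype_card,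
        Fintype.card_units_int] at this
      omega
    · rw [← MonoidHom.mem_ker, h]; exact Subgroup.mem_top _
  have hsgn := congrArg (Equiv.Perm.sign (α := Fin tbl.n)) hσ
  rw [show σ = act g * normT from rfl, map_one, map_mul, act, map_inv, show Equiv.Perm.sign (rep.hom nodup g) = 1 from hs g,
    inv_one, one_mul] at hsgn
  exact absurd (normT_sign.symm.trans hsgn) (by decide)

/-- The outer automorphism group has order two. -/
theorem card_out : Nat.card (Cfsg.Out G) = 2 := by
  haveI := Cfsg.Agent.Steiner.J2.finite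
  haveI := Cfsg.Agent.Steiner.J2.simple
  haveI : Finite (MulAut G) := Finite.of_injective (fun f : MulAut G => (f : G → G))
    DFunLike.coe_injective
  have hinj : Function.Injective (MulAut.conj : G →* MulAut G) := by
    rw [← MonoidHom.ker_eq_bot_iff]
    refine (IsSimpleGroup.eq_bot_or_eq_top_of_normal _ (MonoidHom.normal_ker _)).resolve_right ?_
    intro h
    have h4 : (MulAut.conj (V [4])) (V [0, 3]) = V [0, 3] := by
      have : MulAut.conj (V [4]) = 1 := by rw [← MonoidHom.mem_ker, h]; exact Subgroup.mem_top _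
      rw [this]; rfl
    rw [MulAut.conj_apply, inv_eq_of_mul_eq_one_right (V_sq (by norm_num)), ← V_append,
      ← V_append] at h4
    exact V_ne (U := [4] ++ [0, 3] ++ [4]) (W := [0, 3]) (by simp) (by simp)
      (by decide +kernel) h4
  have hInn : Nat.card (Cfsg.Inn G) = 604800 :=
    (Nat.card_congr (MonoidHom.ofInjective hinj).toEquiv).symm.trans card_eq.1
  have h := Subgroup.card_mul_index (Cfsg.Inn G)
  rw [hInn] at h
  have hle := card_mulAut_le
  have h1 : (Cfsg.Inn G).index ≠ 1 := by
    intro h1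
    rw [Subgroup.index_eq_one] at h1
    obtain ⟨g, hg⟩ : MulEquiv.ofBijective outerHom outerHom_bijective ∈ Cfsg.Inn G := by
      rw [h1]; exact Subgroup.mem_top _
    exact outer_not_inner g hg.symm
  have h0 : (Cfsg.Inn G).index ≠ 0 := Subgroup.index_ne_zero_of_finite
  show (Cfsg.Inn G).index = 2
  omega

end Cfsg.Agent.J2Mult70
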