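import Cfsg.Agent.J2Mult70.Class

/-!
# Tuples of involutions satisfying the relations, first one fixed (helper70)
-/

set_option autoImplicit false
set_option maxRecDepth 100000

namespace Cfsg.Agent.J2Mult70

open Cfsg.Agent.CosetEnum Cfsg.Agent.Steiner.J2

/-- Two packed permutations commute on the base. -/
noncomputable def commB (X Y : ℕ) : Bool :=
  base4.all fun p => Nat.beq (forceNat (app X p) (app Y)) (forceNat (app Y p) (app X))

/-- Iterate first `X`, then `Y`. -/
noncomputable def iterTwo (X Y n p : ℕ) : ℕ :=
  Nat.rec (motive := fun _ => ℕ) p (fun _ ih => forceNat ih (fun q => forceNat (app X q) (app Y))) n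

/-- The product has order dividing `n`. -/
noncomputable def powTwo (X Y n : ℕ) : Bool :=
  base4.all fun p => Nat.beq (iterTwo X Y n p) p

/-- Two packed permutations differ on the base. -/
noncomputable def diffB (X Y : ℕ) : Bool :=
  base4.any fun p => !Nat.beq (app X p) (app Y p)

/-- The packed first generator. -/
def A0 : ℕ := clsP 0

/-- Candidates for the second generator. -/
noncomputable def candB : List ℕ :=
  Data.cls.filter fun Y => diffB A0 Y && powTwo A0 Y 5

/-- Candidates for the third generator. -/
noncomputable def candC (Y : ℕ) : List ℕ :=
  Data.cls.filter fun C => commB A0 C && diffB Y C && powTwo Y C 3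

/-- Candidates for the fourth generator. -/
noncomputable def candD (Y C : ℕ) : List ℕ :=
  Data.cenInv.filter fun D => commB Y D && base4.all fun p => Nat.beq (iterTwo C D 4 p) (app A0 p)

/-- Candidates for the fifth generator. -/
noncomputable def candE (Y C D : ℕ) : List ℕ :=
  Data.cenInv.filter fun E => commB Y E && commB C E && diffB D E && powTwo D E 3

/-- The number of tuples. -/
noncomputable def countTuples : ℕ :=
  (candB.map fun Y => ((candC Y).map fun C => ((candD Y C).map fun D => (candE Y C D).length).sum).sum).sum

theorem countTuples_le : Nat.ble countTuples 3840 = true := by decide +kernel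

end Cfsg.Agent.J2Mult70
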