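import Cfsg.Agent.J2Mult70.Spectrum

/-!
# The class of 315 involutions and the centraliser of the first generator (helper70)
-/

set_option autoImplicit false
set_option maxRecDepth 100000

namespace Cfsg.Agent.J2Mult70

open Cfsg.Agent.CosetEnum Cfsg.Agent.Steiner.J2

/-- An entry of the class list. -/
def clsP (k : ℕ) : ℕ := Data.cls.getD k 0

/-- Entry `j` is the conjugate of entry `k` by generator `l`. -/
noncomputable def conjEntry (j k l : ℕ) : Bool :=
  allRange (fun i => Nat.beq (app (clsP j) i) (forceNat (app (clsP k) (tbl.at' i l)) fun q => tbl.at' q l))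
    0 100

theorem cls_ok : (pkWord (clsP 0) [0] &&
    allRange (fun k => Nat.blt (Data.clsPar.getD k (0, 0)).1 k && Nat.blt (Data.clsPar.getD k (0, 0)).2 5 &&
      conjEntry k (Data.clsPar.getD k (0, 0)).1 (Data.clsPar.getD k (0, 0)).2) 1 314 &&
    allRange (fun k => allRange (fun l => Nat.blt ((Data.clsNext.getD k []).getD l 0) 315 &&
      conjEntry ((Data.clsNext.getD k []).getD l 0) k l) 0 5) 0 315) = true := by
  decide +kernel

theorem cls_parts : (pkWord (clsP 0) [0] = true) ∧
    (∀ k, 1 ≤ k → k < 315 → (Data.clsPar.getD k (0, 0)).1 < k ∧ (Data.clsPar.getD k (0, 0)).2 < 5 ∧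
      conjEntry k (Data.clsPar.getD k (0, 0)).1 (Data.clsPar.getD k (0, 0)).2 = true) ∧
    (∀ k l, k < 315 → l < 5 → (Data.clsNext.getD k []).getD l 0 < 315 ∧
      conjEntry ((Data.clsNext.getD k []).getD l 0) k l = true) := by
  have h := cls_ok
  rw [Bool.and_eq_true, Bool.and_eq_true] at h
  refine ⟨h.1.1, fun k hk hk' => ?_, fun k l hk hl => ?_⟩
  · have := allRange_spec h.1.2 k hk (by omega)
    simp only [Bool.and_eq_true] at this
    exact ⟨Nat.le_of_ble_eq_true this.1.1, Nat.le_of_ble_eq_true this.1.2, this.2⟩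
  · have := allRange_spec (allRange_spec h.2 k (Nat.zero_le _) (by omega)) l (Nat.zero_le _) (by omega)
    simp only [Bool.and_eq_true] at this
    exact ⟨Nat.le_of_ble_eq_true this.1, this.2⟩

theorem act_letter {l : ℕ} (hl : l < 5) (i : Fin tbl.n) : (act (V [l]) i : ℕ) = tbl.at' i l := by
  have := rep.hom_inv_apply nodup (W := [l]) (by simpa [tbl] using hl) i
  rw [Tbl.run_cons, Tbl.run_nil] at this
  exact this

theorem V_sq {l : ℕ} (hl : l < 5) : V [l] * V [l] = 1 := by
  rw [← V_append]
  have : ∀ m < 5, sameAction ([m] ++ [m]) [] = true := by decide +kernel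
  exact word_eq (this l hl)

theorem isPk_conjEntry {j k l : ℕ} (hl : l < 5) {g : G} (hk : IsPk (clsP k) g)
    (h : conjEntry j k l = true) : IsPk (clsP j) (V [l] * g * (V [l])⁻¹) := by
  intro i
  have h1 := Nat.eq_of_beq_eq_true (allRange_spec h i.val (Nat.zero_le _) (by simpa [tbl] using i.2))
  rw [forceNat_eq, ← act_letter hl i, hk, ← act_letter hl] at h1
  rw [h1, inv_eq_of_mul_eq_one_right (V_sq hl), act_mul, act_mul, Equiv.Perm.mul_apply,
    Equiv.Perm.mul_apply]

/-- The element is in the class list. -/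
def InCls (g : G) : Prop := ∃ k < 315, IsPk (clsP k) g

theorem isPk_unique {P : ℕ} {g h : G} (hg : IsPk P g) (hh : IsPk P h) : g = h :=
  act_injective (Equiv.ext fun i => Fin.ext ((hg i).symm.trans (hh i)))

theorem InCls.conj_gen {g : G} (hg : InCls g) {l : ℕ} (hl : l < 5) :
    InCls (V [l] * g * (V [l])⁻¹) := by
  obtain ⟨k, hk, hp⟩ := hg
  obtain ⟨h1, h2⟩ := cls_parts.2.2 k l hk hl
  exact ⟨_, h1, isPk_conjEntry hl hp h2⟩

theorem InCls.conj {g : G} (hg : InCls g) (x : G) : InCls (x * g * x⁻¹) := by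
  have hx : x ∈ Subgroup.closure (pres.val '' Set.Iio pres.gens.length) := by
    rw [pres.closure_val]; exact Subgroup.mem_top _
  induction hx using Subgroup.closure_induction_left generalizing g with
  | one => simpa using hg
  | mul_left a ha b _ ih =>
    obtain ⟨l, hl, rfl⟩ := ha
    have := (ih hg).conj_gen (l := l) hl
    rw [show V [l] = pres.val l from mul_one _] at this
    convert this using 1
    group
  | inv_mul_cancel a ha b _ ih =>
    obtain ⟨l, hl, rfl⟩ := ha
    have h := (ih hg).conj_gen (l := l) hl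
    have hv : V [l] = pres.val l := mul_one _
    rw [hv] at h
    have hinv : (pres.val l)⁻¹ = pres.val l := by
      rw [← hv]; exact inv_eq_of_mul_eq_one_right (V_sq hl)
    rw [hinv] at h ⊢
    convert h using 1
    rw [mul_inv_rev, hinv]
    group

theorem inCls_a : InCls (V [0]) := ⟨0, by norm_num, isPk_of_pkWord cls_parts.1⟩

theorem inCls_isConj {g : G} (hg : InCls g) : IsConj (V [0]) g := by
  obtain ⟨k, hk, hp⟩ := hg
  induction k using Nat.strong_induction_on generalizing g with
  | _ k ih =>
    rcases Nat.eq_zero_or_pos k with rfl | hk0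
    · rw [isPk_unique hp (isPk_of_pkWord cls_parts.1)]
    · obtain ⟨h1, h2, h3⟩ := cls_parts.2.1 k hk0 hk
      obtain ⟨g', hg'⟩ : ∃ g', IsPk (clsP (Data.clsPar.getD k (0, 0)).1) g' := by
        have h0 : ∀ m < 315, ∃ g', IsPk (clsP m) g' := by
          intro m
          induction m using Nat.strong_induction_on with
          | _ m ihm =>
            intro hm
            rcases Nat.eq_zero_or_pos m with rfl | hm0
            · exact ⟨_, isPk_of_pkWord cls_parts.1⟩
            · obtain ⟨a1, a2, a3⟩ := cls_parts.2.1 m hm0 hm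
              obtain ⟨g', hg'⟩ := ihm _ a1 (by omega)
              exact ⟨_, isPk_conjEntry a2 hg' a3⟩
        exact h0 _ (by omega)
      rw [isPk_unique hp (isPk_conjEntry h2 hg' h3)]
      exact (ih _ h1 (by omega) hg').trans (isConj_iff.mpr ⟨_, rfl⟩)

theorem isConj_inCls {g : G} (h : IsConj (V [0]) g) : InCls g := by
  obtain ⟨x, rfl⟩ := isConj_iff.mp h
  exact inCls_a.conj x

theorem eq_of_base {g h : G} (e : ∀ k, act g (bp k) = act h (bp k)) : g = h := by
  have : g * h⁻¹ = 1 := eq_one_of_fix fun k => by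
    rw [act_mul, Equiv.Perm.mul_apply, e k, act_inv, Equiv.Perm.coe_inv, Equiv.symm_apply_apply]
  exact mul_inv_eq_one.mp this

theorem exists_isPk_cls {k : ℕ} (hk : k < 315) : ∃ g, IsPk (clsP k) g := by
  induction k using Nat.strong_induction_on with
  | _ k ih =>
    rcases Nat.eq_zero_or_pos k with rfl | hk0
    · exact ⟨_, isPk_of_pkWord cls_parts.1⟩
    · obtain ⟨h1, h2, h3⟩ := cls_parts.2.1 k hk0 hk
      obtain ⟨g, hg⟩ := ih _ h1 (by omega)
      exact ⟨_, isPk_conjEntry h2 hg h3⟩

theorem cls_length : Data.cls.length = 315 := by decide +kernel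

/-- The square of an element of order four is in the class. -/
theorem inCls_sq {g : G} (h4 : g ^ 4 = 1) (h2 : g ^ 2 ≠ 1) : InCls (g ^ 2) := by
  obtain ⟨k, t, ht, hr⟩ := exists_conj_root g
  have hconj : ∀ n, F t ^ n = k⁻¹ * g ^ n * k := fun n => by
    rw [← ht]
    simpa [inv_inv] using conj_pow (i := n) (a := k⁻¹) (b := g)
  have h := scan_spec t hr
  rw [scanOne, Bool.and_eq_true] at h
  simp only [Bool.or_eq_true] at h
  rcases h.2 with (hh | hh) | hh
  · rw [Bool.not_eq_true'] at hh
    refine absurd ?_ (pow_ne_one_of_powFix t 4 hh)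
    rw [hconj, h4]; group
  · have := pow_eq_one_of_powFix t 2 hh
    rw [hconj] at this
    refine absurd ?_ h2
    calc g ^ 2 = k * (k⁻¹ * g ^ 2 * k) * k⁻¹ := by group
      _ = 1 := by rw [this]; group
  · rw [sqInClass, List.any_eq_true] at hh
    obtain ⟨C, hC, hbase⟩ := hh
    obtain ⟨m, hm, rfl⟩ := List.getElem_of_mem hC
    rw [List.all_eq_true] at hbase
    have hm' : m < 315 := cls_length ▸ hm
    obtain ⟨c, hc⟩ := exists_isPk_cls hm'
    have hcl : InCls c := ⟨m, hm', hc⟩
    have : F t ^ 2 = c := eq_of_base fun j => Fin.ext (by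
      rw [← iterApp_eq t 2 (bp j), Nat.eq_of_beq_eq_true (hbase _ (base4_mem j)), ← hc (bp j),
        clsP, List.getD_eq_getElem _ _ hm])
    rw [hconj] at this
    rw [show g ^ 2 = k * c * k⁻¹ by rw [← this]; group]
    exact hcl.conj k

theorem cls_distinct : allRange (fun j => allRange (fun i =>
    base4.any fun p => !Nat.beq (app (clsP i) p) (app (clsP j) p)) 0 j) 0 315 = true := by
  decide +kernel

theorem conjClass_card : Nat.card {g : G // IsConj (V [0]) g} = 315 := by
  classical
  choose f hf using fun k : Fin 315 => exists_isPk_cls k.2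
  have hinj : Function.Injective f := by
    intro i j e
    by_contra hne
    wlog hlt : i.val < j.val generalizing i j with H
    · exact H e.symm (fun h => hne h.symm) (by have := Fin.val_ne_of_ne hne; omega)
    have h := allRange_spec (allRange_spec cls_distinct j.val (Nat.zero_le _) (by omega)) i.val
      (Nat.zero_le _) (by omega)
    rw [List.any_eq_true] at h
    obtain ⟨p, hp, hne'⟩ := h
    have hp' : p < tbl.n := by
      simp only [base4, List.mem_cons, List.not_mem_nil, or_false] at hp
      rcases hp with rfl | rfl | rfl | rfl <;> simp [tbl]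
    rw [hf i ⟨p, hp'⟩, hf j ⟨p, hp'⟩, e, Nat.beq_refl] at hne'
    simp at hne'
  let e : Fin 315 → {g : G // IsConj (V [0]) g} := fun k => ⟨f k, inCls_isConj ⟨k, k.2, hf k⟩⟩
  have he : Function.Bijective e := by
    refine ⟨fun i j h => hinj (congrArg Subtype.val h), fun g => ?_⟩
    obtain ⟨k, hk, hp⟩ := isConj_inCls g.2
    exact ⟨⟨k, hk⟩, Subtype.ext (isPk_unique (hf ⟨k, hk⟩) hp)⟩
  rw [← Nat.card_eq_of_bijective e he]
  simp

end Cfsg.Agent.J2Mult70
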