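import Cfsg.Agent.J2Mult70.Words
import Cfsg.Agent.J2Mult70.Data

/-!
# The elements of the presented Hall–Janko group through four transversals (helper70)

Every element is uniquely a product of members of the transversals for the base `0, 12, 2, 1`, and
is determined by its images of these four points.
-/

set_option autoImplicit false
set_option maxRecDepth 100000

namespace Cfsg.Agent.J2Mult70

open Cfsg.Agent.CosetEnum Cfsg.Agent.Steiner.J2

/-- The image of a point under a packed permutation. -/
def app (P p : ℕ) : ℕ := Nat.land (Nat.shiftRight P (Nat.mul p 8)) 255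

/-- The four base points. -/
def base4 : List ℕ := [0, 12, 2, 1]

/-- The right action on the points. -/
noncomputable def act (g : G) : Equiv.Perm (Fin tbl.n) := (rep.hom nodup g)⁻¹

theorem act_one : act 1 = 1 := by simp [act]

theorem act_mul (g h : G) : act (g * h) = act h * act g := by simp [act]

theorem act_inv (g : G) : act g⁻¹ = (act g)⁻¹ := by simp [act]

theorem act_injective : Function.Injective act := fun g h e =>
  card_eq.2 (inv_injective e)

/-- The permutation packed in `P` is that of `g`. -/
def IsPk (P : ℕ) (g : G) : Prop := ∀ i : Fin tbl.n, app P i = (act g i : ℕ)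

/-- The packed permutation is that of the word. -/
noncomputable def pkWord (P : ℕ) (W : List ℕ) : Bool :=
  W.all (fun l => Nat.blt l 5) && allRange (fun i => Nat.beq (app P i) (tbl.run W i)) 0 100

theorem isPk_of_pkWord {P : ℕ} {W : List ℕ} (h : pkWord P W = true) : IsPk P (V W) := by
  rw [pkWord, Bool.and_eq_true, List.all_eq_true] at h
  intro i
  rw [Nat.eq_of_beq_eq_true (allRange_spec h.2 i.val (Nat.zero_le _) (by simpa [tbl] using i.2))]
  exact (rep.hom_inv_apply nodup (fun l hl => Nat.le_of_ble_eq_true (h.1 l hl)) i).symm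

theorem IsPk.mul {P Q : ℕ} {g h : G} (hP : IsPk P g) (hQ : IsPk Q h) (i : Fin tbl.n) :
    app Q (app P i) = (act (g * h) i : ℕ) := by
  rw [act_mul, Equiv.Perm.mul_apply, hP i, hQ (act g i)]

/-- A base point. -/
def bp (k : Fin 4) : Fin tbl.n :=
  ⟨base4.getD k.val 0, by fin_cases k <;> simp [base4, tbl]⟩

/-- The transversals, as packed permutations. -/
def transP : Fin 4 → List ℕ := ![Data.trans0, Data.trans1, Data.trans2, Data.trans3]

/-- The transversals, as words. -/
def transW : Fin 4 → List (List ℕ) := ![Data.transW0, Data.transW1, Data.transW2, Data.transW3]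

/-- The sizes of the transversals. -/
def tsize : Fin 4 → ℕ := ![100, 63, 32, 3]

/-- A member of a transversal. -/
noncomputable def U (k : Fin 4) (j : Fin (tsize k)) : G := V ((transW k).getD j.val [])

/-- Its packed permutation. -/
def UP (k : Fin 4) (j : ℕ) : ℕ := (transP k).getD j 0

/-- The transversal tests at one level. -/
noncomputable def transOK (k : Fin 4) : Bool :=
  allRange (fun j => pkWord (UP k j) ((transW k).getD j []) &&
    allRange (fun i => Nat.beq (app (UP k j) (base4.getD i 0)) (base4.getD i 0)) 0 k.val &&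
    (Nat.beq j 0 || Nat.blt (app (UP k (j - 1)) (base4.getD k.val 0))
      (app (UP k j) (base4.getD k.val 0)))) 0 (tsize k)

theorem transOK_all : ∀ k : Fin 4, transOK k = true := by decide +kernel

theorem transP_len : ∀ k : Fin 4, (transP k).length = tsize k := by decide +kernel

theorem isPk_U (k : Fin 4) (j : Fin (tsize k)) : IsPk (UP k j) (U k j) := by
  have h := allRange_spec (transOK_all k) j.val (Nat.zero_le _) (by have := j.2; omega)
  simp only [Bool.and_eq_true] at h
  exact isPk_of_pkWord h.1.1

theorem U_fix {k i : Fin 4} (hi : i < k) (j : Fin (tsize k)) : act (U k j) (bp i) = bp i := by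
  have h := allRange_spec (transOK_all k) j.val (Nat.zero_le _) (by have := j.2; omega)
  simp only [Bool.and_eq_true] at h
  have h1 := Nat.eq_of_beq_eq_true
    (allRange_spec h.1.2 i.val (Nat.zero_le _) (by simpa using hi))
  exact Fin.ext ((isPk_U k j (bp i)).symm.trans h1)

theorem U_mono (k : Fin 4) : StrictMono fun j : Fin (tsize k) => (act (U k j) (bp k) : ℕ) := by
  have hs : ∀ j : ℕ, j + 1 < tsize k → app (UP k j) (bp k) < app (UP k (j + 1)) (bp k) := by
    intro j hj
    have h := allRange_spec (transOK_all k) (j + 1) (Nat.zero_le _) (by omega)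
    simp only [Bool.and_eq_true, Bool.or_eq_true] at h
    rcases h.2 with h2 | h2
    · exact absurd (Nat.eq_of_beq_eq_true h2) (by omega)
    · exact Nat.le_of_ble_eq_true h2
  intro x y hxy
  show (act (U k x) (bp k) : ℕ) < (act (U k y) (bp k) : ℕ)
  rw [← isPk_U k x (bp k), ← isPk_U k y (bp k)]
  obtain ⟨x, hx⟩ := x
  obtain ⟨y, hy⟩ := y
  have hxy' : x < y := hxy
  show app (UP k x) (bp k) < app (UP k y) (bp k)
  clear hx hxy
  induction y, hxy' using Nat.le_induction with
  | base => exact hs x hy
  | succ m hm ih => exact lt_trans (ih (by omega)) (hs m hy)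

/-- One index for each transversal. -/
abbrev Tup : Type := Fin (tsize 0) × Fin (tsize 1) × Fin (tsize 2) × Fin (tsize 3)

/-- The product of one member of each transversal. -/
noncomputable def F (t : Tup) : G :=
  U 3 t.2.2.2 * U 2 t.2.2.1 * U 1 t.2.1 * U 0 t.1

theorem F_ext {t s : Tup}
    (h : ∀ k, act (F t) (bp k) = act (F s) (bp k)) : t = s := by
  obtain ⟨t0, t1, t2, t3⟩ := t
  obtain ⟨s0, s1, s2, s3⟩ := s
  have hf : ∀ (k i : Fin 4), i < k → ∀ j : Fin (tsize k), act (U k j) (bp i) = bp i :=
    fun k i hi j => U_fix hi j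
  have inj : ∀ (k : Fin 4) (x y : Fin (tsize k)),
      act (U k x) (bp k) = act (U k y) (bp k) → x = y :=
    fun k x y e => (U_mono k).injective (congrArg Fin.val e)
  simp only [F, act_mul, Equiv.Perm.mul_apply] at h
  have h0 := h 0
  rw [hf 3 0 (by decide), hf 2 0 (by decide), hf 1 0 (by decide), hf 3 0 (by decide),
    hf 2 0 (by decide), hf 1 0 (by decide)] at h0
  obtain rfl : t0 = s0 := inj 0 t0 s0 h0
  have h1 := (act (U 0 t0)).injective (h 1)
  rw [hf 3 1 (by decide), hf 2 1 (by decide), hf 3 1 (by decide), hf 2 1 (by decide)] at h1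
  obtain rfl : t1 = s1 := inj 1 t1 s1 h1
  have h2 := (act (U 1 t1)).injective ((act (U 0 t0)).injective (h 2))
  rw [hf 3 2 (by decide), hf 3 2 (by decide)] at h2
  obtain rfl : t2 = s2 := inj 2 t2 s2 h2
  obtain rfl : t3 = s3 :=
    inj 3 t3 s3 ((act (U 2 t2)).injective ((act (U 1 t1)).injective ((act (U 0 t0)).injective (h 3))))
  rfl

theorem F_bijective : Function.Bijective F := by
  haveI := Cfsg.Agent.Steiner.J2.finite
  refine (Nat.bijective_iff_injective_and_card F).mpr
    ⟨fun t s e => F_ext fun k => by rw [e], ?_⟩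
  rw [show Nat.card G = 604800 from card_eq.1]
  rw [Nat.card_prod, Nat.card_prod, Nat.card_prod]
  simp [tsize]

/-- An element fixing the base is trivial. -/
theorem eq_one_of_fix {g : G} (h : ∀ k, act g (bp k) = bp k) : g = 1 := by
  obtain ⟨t, rfl⟩ := F_bijective.2 g
  obtain ⟨s, hs⟩ := F_bijective.2 1
  rw [← hs]
  congr 1
  refine F_ext fun k => ?_
  rw [h k, hs, act_one, Equiv.Perm.one_apply]

/-- The image of a point under a product of transversal members. -/
def elemApp (P3 P2 P1 P0 p : ℕ) : ℕ := app P0 (app P1 (app P2 (app P3 p)))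

theorem elemApp_F (t : Tup) (i : Fin tbl.n) :
    elemApp (UP 3 t.2.2.2.val) (UP 2 t.2.2.1.val) (UP 1 t.2.1.val) (UP 0 t.1.val) i
      = (act (F t) i : ℕ) := by
  simp only [elemApp, F, act_mul, Equiv.Perm.mul_apply]
  rw [isPk_U 3 t.2.2.2 i, isPk_U 2 t.2.2.1 _, isPk_U 1 t.2.1 _, isPk_U 0 t.1 _]

theorem UP_mem (k : Fin 4) {j : ℕ} (hj : j < tsize k) : UP k j ∈ transP k := by
  have hl : j < (transP k).length := by rw [transP_len]; exact hj
  rw [UP, List.getD_eq_getElem _ _ hl]
  exact List.getElem_mem _

/-- The orbit representatives of the point stabiliser. -/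
def roots3 : List ℕ := [0, 1, 3]

theorem toRoot_ok : allRange (fun i =>
    (Data.toRoot.getD i []).all (fun l => Nat.blt l 5) &&
      Nat.beq (tbl.run (Data.toRoot.getD i []) 0) 0 &&
      roots3.any (fun r => Nat.beq (tbl.run (Data.toRoot.getD i []) i) r) &&
      Nat.beq (app (UP 0 i) 0) i) 0 100 = true := by
  decide +kernel

/-- Every element is conjugate to a product whose first member is one of three. -/
theorem exists_conj_root (g : G) : ∃ (k : G) (t : Tup),
    k⁻¹ * g * k = F t ∧ t.1.val ∈ roots3 := by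
  let i : Fin tbl.n := act g (bp 0)
  have h := allRange_spec toRoot_ok i.val (Nat.zero_le _) (by simpa [tbl] using i.2)
  simp only [Bool.and_eq_true, List.all_eq_true, List.any_eq_true] at h
  obtain ⟨⟨⟨hlt, h0⟩, r, hr, hri⟩, -⟩ := h
  have hlt' : ∀ l ∈ Data.toRoot.getD i.val [], l < tbl.nl :=
    fun l hl => Nat.le_of_ble_eq_true (hlt l hl)
  set k := V (Data.toRoot.getD i.val []) with hk
  have hrun : ∀ p : Fin tbl.n, (act k p : ℕ) = tbl.run (Data.toRoot.getD i.val []) p :=
    fun p => rep.hom_inv_apply nodup hlt' p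
  have hfix : act k (bp 0) = bp 0 :=
    Fin.ext (by rw [hrun]; exact Nat.eq_of_beq_eq_true h0)
  obtain ⟨t, ht⟩ := F_bijective.2 (k⁻¹ * g * k)
  refine ⟨k, t, ht.symm, ?_⟩
  have hinv : (act k)⁻¹ (bp 0) = bp 0 := by
    rw [Equiv.Perm.inv_eq_iff_eq]; exact hfix.symm
  have hw : (act (F t) (bp 0) : ℕ) = r := by
    rw [ht, act_mul, act_mul, act_inv, Equiv.Perm.mul_apply, Equiv.Perm.mul_apply, hinv, hrun]
    exact Nat.eq_of_beq_eq_true hri
  have hroot := allRange_spec toRoot_ok t.1.val (Nat.zero_le _) (by have h2 : t.1.val < 100 := t.1.2; omega)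
  simp only [Bool.and_eq_true] at hroot
  have he : (act (F t) (bp 0) : ℕ) = t.1.val := by
    simp only [F, act_mul, Equiv.Perm.mul_apply]
    rw [U_fix (k := 3) (i := 0) (by decide), U_fix (k := 2) (i := 0) (by decide),
      U_fix (k := 1) (i := 0) (by decide), ← isPk_U 0 t.1 (bp 0)]
    exact Nat.eq_of_beq_eq_true hroot.2
  rw [← he, hw]
  exact hr

end Cfsg.Agent.J2Mult70
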