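import Cfsg.Agent.J2Mult70.Bound
import Cfsg.Agent.Lib.Steiner.Ico.Iso
import Cfsg.Agent.Lib.SmallGroups.Counting

/-!
# The icosian double cover is a stem extension (helper70)
-/

set_option autoImplicit false
set_option maxRecDepth 100000

namespace Cfsg.Agent.J2Mult70

open Cfsg.Spor Cfsg.Agent.Steiner.Ico
open scoped commutatorElement

/-- The word of the second involution. -/
def yWord : List ℕ := wW ++ [4] ++ wW.reverse

theorem anticommute_ok : applyW (([4] : List ℕ).flatMap genWord ++ yWord.flatMap genWord) (axisC 1) ≠
      applyW (yWord.flatMap genWord ++ ([4] : List ℕ).flatMap genWord) (axisC 1) ∨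
    applyW (([4] : List ℕ).flatMap genWord ++ yWord.flatMap genWord) (axisC 0) ≠
      applyW (yWord.flatMap genWord ++ ([4] : List ℕ).flatMap genWord) (axisC 0) := by
  decide +kernel

/-- The product of reflections of a word, in the cover. -/
noncomputable def liftW (W : List ℕ) : twoJ2 := ⟨reflProd (W.flatMap genWord), reflProd_mem _⟩

theorem mk_liftW {W : List ℕ} (h : ∀ l ∈ W, l < 5) :
    (QuotientGroup.mk' (Subgroup.center twoJ2)) (liftW W) = presHom (V W) := by
  show toJ2 (W.flatMap genWord) = presHom (V W)
  induction W with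
  | nil => rw [List.flatMap_nil, toJ2_nil]; exact (map_one presHom).symm
  | cons l ls ih =>
    rw [List.flatMap_cons, toJ2_append, ih fun x hx => h x (List.mem_cons_of_mem _ hx)]
    show _ = presHom (Cfsg.Agent.Steiner.J2.pres.val l * V ls)
    rw [map_mul]
    congr 1
    have hl := h l List.mem_cons_self
    interval_cases l
    exacts [(presHom_of .a).symm, (presHom_of .b).symm, (presHom_of .c).symm, (presHom_of .d).symm,
      (presHom_of .e).symm]

theorem commutator_ne_one : ⁅liftW [4], liftW yWord⁆ ≠ 1 := by
  intro h
  have hc : liftW [4] * liftW yWord = liftW yWord * liftW [4] :=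
    commutatorElement_eq_one_iff_mul_comm.mp h
  have e := congrArg Subtype.val hc
  simp only [Subgroup.coe_mul, liftW] at e
  rcases anticommute_ok with hne | hne <;> refine hne (vecOf_injective ?_)
  · rw [← reflProd_apply _ (t := axisC 1) (x := axisV 1) rfl,
      ← reflProd_apply _ (t := axisC 1) (x := axisV 1) rfl]
    simp only [reflProd, List.map_append, List.prod_append] at e ⊢
    rw [e]
  · rw [← reflProd_apply _ (t := axisC 0) (x := axisV 0) rfl,
      ← reflProd_apply _ (t := axisC 0) (x := axisV 0) rfl]
    simp only [reflProd, List.map_append, List.prod_append] at e ⊢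
    rw [e]

theorem commutator_mem_center : ⁅liftW [4], liftW yWord⁆ ∈ Subgroup.center twoJ2 := by
  rw [← QuotientGroup.eq_one_iff]
  show QuotientGroup.mk' (Subgroup.center twoJ2) ⁅liftW [4], liftW yWord⁆ = 1
  rw [map_commutatorElement, mk_liftW (by decide), mk_liftW (by decide +kernel),
    ← map_commutatorElement]
  have hc : Commute (V [4]) (V yWord) := by
    show V [4] * V yWord = V yWord * V [4]
    rw [← V_append, ← V_append]
    exact word_eq (by decide +kernel)
  rw [hc.commutator_eq, map_one]

theorem finite_twoJ2 : Finite twoJ2 :=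
  Nat.finite_of_card_ne_zero (by rw [card_twoJ2]; norm_num)

theorem center_le_commutator : Subgroup.center twoJ2 ≤ commutator twoJ2 := by
  haveI := finite_twoJ2
  haveI : Fact (Nat.Prime 2) := ⟨Nat.prime_two⟩
  intro z hz
  have hgen := Cfsg.Agent.SmallGroups.zpowers_eq_of_card_prime (p := 2) card_center
    commutator_mem_center commutator_ne_one
  rw [← hgen] at hz
  exact (Subgroup.zpowers_le.mpr (Subgroup.commutator_mem_commutator (Subgroup.mem_top _)
    (Subgroup.mem_top _)) hz :)

theorem isStemExtension_twoJ2 :
    Cfsg.IsStemExtension (QuotientGroup.mk' (Subgroup.center twoJ2)) := by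
  refine ⟨QuotientGroup.mk'_surjective _, ?_, ?_⟩ <;> rw [QuotientGroup.ker_mk']
  exact center_le_commutator

theorem hasCyclicSchurMultiplier_J2 : Cfsg.HasCyclicSchurMultiplier Spor.J2 2 := by
  haveI := finite_twoJ2
  refine hasCyclicSchurMultiplier_two presEquiv.symm _ isStemExtension_twoJ2 ?_
  rw [QuotientGroup.ker_mk']
  exact card_center

end Cfsg.Agent.J2Mult70
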