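import Cfsg.Agent.J2Mult70.Spectrum

/-!
# Arbitrarily large groups with the element orders of the Hall–Janko group (helper70)

`A₈` acting on powers of the six-dimensional heart of its permutation module over the field of two
elements, realised as functions on pairs of points.
-/

set_option autoImplicit false
set_option maxRecDepth 100000

namespace Cfsg.Agent.J2Mult70

/-- The pair function of a function on the eight points. -/
def pairFun : (Fin 8 → ZMod 2) →+ (Fin 8 → Fin 8 → ZMod 2) where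
  toFun v i j := v i + v j
  map_zero' := by ext; simp
  map_add' v w := by ext i j; simp only [Pi.add_apply]; abel

/-- The sum of the values. -/
def sumHom : (Fin 8 → ZMod 2) →+ ZMod 2 where
  toFun v := ∑ i, v i
  map_zero' := by simp
  map_add' v w := by simp [Finset.sum_add_distrib]

/-- The heart of the permutation module. -/
def heart : AddSubgroup (Fin 8 → Fin 8 → ZMod 2) := sumHom.ker.map pairFun

theorem perm_mem_heart (σ : Equiv.Perm (Fin 8)) {f : Fin 8 → Fin 8 → ZMod 2} (hf : f ∈ heart) :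
    (fun i j => f (σ i) (σ j)) ∈ heart := by
  obtain ⟨v, hv, rfl⟩ := hf
  refine ⟨v ∘ σ, ?_, rfl⟩
  show ∑ i, v (σ i) = 0
  rw [Equiv.sum_comp σ v]
  exact hv

theorem heart_add_self (f : heart) : f + f = 0 := by
  apply Subtype.ext
  funext i j
  exact CharTwo.add_self_eq_zero _

/-- The module. -/
abbrev Mdl (N : ℕ) : Type := Fin N → heart

/-- An even permutation acting on the module. -/
def actM (N : ℕ) (σ : alternatingGroup (Fin 8)) : Mdl N ≃+ Mdl N where
  toFun x k := ⟨fun i j => (x k).1 (σ.1⁻¹ i) (σ.1⁻¹ j), perm_mem_heart _ (x k).2⟩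
  invFun x k := ⟨fun i j => (x k).1 (σ.1 i) (σ.1 j), perm_mem_heart _ (x k).2⟩
  left_inv x := by ext k i j; simp
  right_inv x := by ext k i j; simp
  map_add' x y := by ext k i j; rfl

/-- The action as a homomorphism. -/
def actHom (N : ℕ) : alternatingGroup (Fin 8) →* MulAut (Multiplicative (Mdl N)) where
  toFun σ := (actM N σ).toMultiplicative
  map_one' := by
    ext x : 1
    apply Multiplicative.toAdd.injective
    ext k i j; rfl
  map_mul' σ τ := by
    ext x : 1
    apply Multiplicative.toAdd.injective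
    ext k i j; rfl

/-- The group. -/
abbrev IsoGroup (N : ℕ) : Type :=
  SemidirectProduct (Multiplicative (Mdl N)) (alternatingGroup (Fin 8)) (actHom N)

/-- The norm of a pair function under a permutation. -/
def normPair (h : Equiv.Perm (Fin 8)) (o : ℕ) (f : Fin 8 → Fin 8 → ZMod 2) :
    Fin 8 → Fin 8 → ZMod 2 :=
  fun i j => ∑ r ∈ Finset.range o, f ((h ^ r)⁻¹ i) ((h ^ r)⁻¹ j)

variable {N : ℕ}

theorem pow_left (g : IsoGroup N) (n : ℕ) (k : Fin N) (i j : Fin 8) :
    ((Multiplicative.toAdd (g ^ n).left) k).1 i j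
      = normPair g.right.1 n ((Multiplicative.toAdd g.left) k).1 i j := by
  induction n with
  | zero => simp [normPair]
  | succ n ih =>
    rw [pow_succ, SemidirectProduct.mul_left, toAdd_mul, normPair, Finset.sum_range_succ]
    show ((Multiplicative.toAdd (g ^ n).left) k).1 i j + _ = _
    rw [ih, normPair]
    congr 1
    have hr : ∀ m : ℕ, ((g ^ m).right : alternatingGroup (Fin 8)) = g.right ^ m := fun m =>
      map_pow SemidirectProduct.rightHom g m
    show ((Multiplicative.toAdd g.left) k).1 (((g ^ n).right : alternatingGroup (Fin 8)).1⁻¹ i)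
      (((g ^ n).right : alternatingGroup (Fin 8)).1⁻¹ j) = _
    rw [hr]
    rfl

theorem pow_right (g : IsoGroup N) (n : ℕ) : (g ^ n).right = g.right ^ n :=
  map_pow SemidirectProduct.rightHom g n

theorem pow_two_orderOf (g : IsoGroup N) : g ^ (2 * orderOf g.right) = 1 := by
  have hr : (g ^ orderOf g.right).right = 1 := by rw [pow_right, pow_orderOf_eq_one]
  rw [mul_comm, pow_mul, pow_two]
  ext : 1
  · rw [SemidirectProduct.mul_left, hr, map_one, MulAut.one_apply, SemidirectProduct.one_left]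
    apply Multiplicative.toAdd.injective
    rw [toAdd_mul, toAdd_one]
    funext k
    exact heart_add_self _
  · rw [SemidirectProduct.mul_right, hr, one_mul, SemidirectProduct.one_right]

/-- The norm vanishes on the heart. -/
def NormZero (h : Equiv.Perm (Fin 8)) (o : ℕ) : Prop :=
  ∀ v : Fin 8 → ZMod 2, sumHom v = 0 → normPair h o (pairFun v) = 0

theorem normZero_conj {h σ : Equiv.Perm (Fin 8)} {o : ℕ} (hh : NormZero h o) :
    NormZero (σ * h * σ⁻¹) o := by
  intro v hv
  funext i j
  have hs : sumHom (v ∘ σ) = 0 := by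
    show ∑ i, v (σ i) = 0
    rw [Equiv.sum_comp σ v]; exact hv
  have := congrFun (congrFun (hh _ hs) (σ⁻¹ i)) (σ⁻¹ j)
  rw [Pi.zero_apply, Pi.zero_apply] at this
  rw [Pi.zero_apply, Pi.zero_apply, ← this]
  refine Finset.sum_congr rfl fun r _ => ?_
  show v _ + v _ = v _ + v _
  rw [conj_pow]
  simp only [mul_inv_rev, inv_inv, Equiv.Perm.mul_apply]

theorem normZero_seven : NormZero (List.formPerm [0, 1, 2, 3, 4, 5, 6]) 7 := by
  unfold NormZero
  decide +kernel

theorem normZero_fifteen :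
    NormZero (List.formPerm [0, 1, 2, 3, 4] * List.formPerm [5, 6, 7]) 15 := by
  unfold NormZero
  decide +kernel

theorem cycleType_mem (σ : Equiv.Perm (Fin 8)) : σ.cycleType ∈
    ({2, 2, 2, 2, 3, 3, 4, 4, 5, 6, 7, 8} : Multiset ℕ).powerset ∧ σ.cycleType.sum ≤ 8 := by
  have h8 : σ.cycleType.sum ≤ 8 := by
    rw [Equiv.Perm.sum_cycleType]; simpa using σ.support.card_le_univ
  refine ⟨Multiset.mem_powerset.mpr ?_, h8⟩
  rw [Multiset.le_iff_count]
  intro a
  rcases Nat.eq_zero_or_pos (σ.cycleType.count a) with h0 | h0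
  · omega
  have ha2 : 2 ≤ a := Equiv.Perm.two_le_of_mem_cycleType (Multiset.count_pos.mp h0)
  have hrep : Multiset.replicate (σ.cycleType.count a) a ≤ σ.cycleType :=
    Multiset.le_count_iff_replicate_le.mp le_rfl
  have hmul : σ.cycleType.count a * a ≤ 8 := by
    obtain ⟨r, hr⟩ := Multiset.le_iff_exists_add.mp hrep
    calc σ.cycleType.count a * a
        ≤ (Multiset.replicate (σ.cycleType.count a) a).sum + r.sum := by simp
      _ = σ.cycleType.sum := by rw [← Multiset.sum_add, ← hr]
      _ ≤ 8 := h8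
  have ha8 : a ≤ 8 := le_trans (Nat.le_mul_of_pos_left a h0) hmul
  interval_cases a <;> simp <;> omega

theorem alt_cases (σ : alternatingGroup (Fin 8)) :
    orderOf σ ∈ [1, 2, 3, 4, 5, 6] ∨
      (orderOf σ = 7 ∧ NormZero σ.1 7) ∨ (orderOf σ = 15 ∧ NormZero σ.1 15) := by
  have hparts : ∀ m ∈ ({2, 2, 2, 2, 3, 3, 4, 4, 5, 6, 7, 8} : Multiset ℕ).powerset,
      m.sum ≤ 8 → Even (m.sum + Multiset.card m) →
      m.lcm ∈ [1, 2, 3, 4, 5, 6] ∨ (m.lcm = 7 ∧ m = {7}) ∨ (m.lcm = 15 ∧ m = {5, 3}) := by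
    decide +kernel
  obtain ⟨hm, h8⟩ := cycleType_mem σ.1
  have hsgn : Even (σ.1.cycleType.sum + Multiset.card σ.1.cycleType) := by
    have := Equiv.Perm.mem_alternatingGroup.mp σ.2
    rw [Equiv.Perm.sign_of_cycleType] at this
    exact (neg_one_pow_eq_one_iff_even (R := ℤˣ) (by decide)).mp this
  have hord : orderOf σ = σ.1.cycleType.lcm := by
    rw [Equiv.Perm.lcm_cycleType, Subgroup.orderOf_coe]
  rw [hord]
  rcases hparts _ hm h8 hsgn with h | ⟨h, h7⟩ | ⟨h, h15⟩
  · exact Or.inl h
  · refine Or.inr (Or.inl ⟨h, ?_⟩)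
    have hc : IsConj (List.formPerm [(0 : Fin 8), 1, 2, 3, 4, 5, 6]) σ.1 := by
      rw [Equiv.Perm.isConj_iff_cycleType_eq, h7]
      decide +kernel
    obtain ⟨τ, hτ⟩ := isConj_iff.mp hc
    rw [← hτ]
    exact normZero_conj normZero_seven
  · refine Or.inr (Or.inr ⟨h, ?_⟩)
    have hc : IsConj (List.formPerm [(0 : Fin 8), 1, 2, 3, 4] * List.formPerm [5, 6, 7]) σ.1 := by
      rw [Equiv.Perm.isConj_iff_cycleType_eq, h15]
      decide +kernel
    obtain ⟨τ, hτ⟩ := isConj_iff.mp hc
    rw [← hτ]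
    exact normZero_conj normZero_fifteen

theorem orderOf_iso_mem (g : IsoGroup N) : orderOf g ∈ orderSet := by
  have hd := orderOf_dvd_of_pow_eq_one (pow_two_orderOf g)
  rcases alt_cases g.right with h | ⟨h, hz⟩ | ⟨h, hz⟩
  · have key : ∀ o ∈ [1, 2, 3, 4, 5, 6], ∀ d ∈ (2 * o).divisors, d ∈ orderSet := by
      simp only [orderSet, Set.mem_insert_iff, Set.mem_singleton_iff]
      decide +kernel
    exact key _ h _ (Nat.mem_divisors.mpr ⟨hd, by have := orderOf_pos g.right; omega⟩)
  all_goals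
    have h1 : g ^ (orderOf g.right) = 1 := by
      ext : 1
      · apply Multiplicative.toAdd.injective
        rw [SemidirectProduct.one_left, toAdd_one]
        funext k
        apply Subtype.ext
        funext i j
        rw [pow_left]
        obtain ⟨v, hv, hf⟩ := ((Multiplicative.toAdd g.left) k).2
        rw [← hf, h, hz v hv]
        rfl
      · rw [pow_right, pow_orderOf_eq_one, SemidirectProduct.one_right]
    have h2 := orderOf_dvd_of_pow_eq_one h1
    rw [h] at h2
    have key : ∀ o ∈ [7, 15], ∀ d ∈ Nat.divisors o, d ∈ orderSet := by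
      simp only [orderSet, Set.mem_insert_iff, Set.mem_singleton_iff]
      decide +kernel
    exact key _ (by simp) _ (Nat.mem_divisors.mpr ⟨h2, by omega⟩)

/-- A pair function in the heart, made from two points. -/
def heartPair (a b : Fin 8) : heart :=
  ⟨pairFun (fun i => (if i = a then 1 else 0) + (if i = b then 1 else 0)),
    ⟨_, by
      show ∑ i : Fin 8, ((if i = a then (1 : ZMod 2) else 0) + (if i = b then 1 else 0)) = 0
      rw [Finset.sum_add_distrib, Finset.sum_ite_eq', Finset.sum_ite_eq']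
      simp only [Finset.mem_univ, if_true]
      decide, rfl⟩⟩

theorem witness_double : ∀ o ∈ [4, 5, 6], ∃ c ∈
    [([[0, 1, 2, 3], [4, 5]], (0 : Fin 8), (6 : Fin 8)), ([[0, 1, 2, 3, 4]], 0, 5),
      ([[0, 1, 2], [3, 4], [5, 6]], 3, 7), ([[0, 1, 2, 3, 4, 5], [6, 7]], 0, 6)],
    (Equiv.Perm.sign (List.map (List.formPerm : List (Fin 8) → Equiv.Perm (Fin 8)) c.1).prod = 1) ∧
      (List.map (List.formPerm : List (Fin 8) → Equiv.Perm (Fin 8)) c.1).prod ^ o = 1 ∧
      (∀ k < o, 0 < k →
        (List.map (List.formPerm : List (Fin 8) → Equiv.Perm (Fin 8)) c.1).prod ^ k ≠ 1) ∧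
      ∃ i j, normPair (List.map (List.formPerm : List (Fin 8) → Equiv.Perm (Fin 8)) c.1).prod o
        (heartPair c.2.1 c.2.2).1 i j ≠ 0 := by
  decide +kernel

theorem witness_plain : ∀ o ∈ [1, 2, 3, 4, 5, 6, 7, 15], ∃ c ∈
    [[], [[(0 : Fin 8), 1], [2, 3]], [[0, 1, 2]], [[0, 1, 2, 3], [4, 5]], [[0, 1, 2, 3, 4]],
      [[0, 1, 2, 3, 4, 5], [6, 7]], [[0, 1, 2, 3, 4, 5, 6]], [[0, 1, 2, 3, 4], [5, 6, 7]]],
    (Equiv.Perm.sign (List.map (List.formPerm : List (Fin 8) → Equiv.Perm (Fin 8)) c).prod = 1) ∧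
      (List.map (List.formPerm : List (Fin 8) → Equiv.Perm (Fin 8)) c).prod ^ o = 1 ∧
      (∀ k < o, 0 < k →
        (List.map (List.formPerm : List (Fin 8) → Equiv.Perm (Fin 8)) c).prod ^ k ≠ 1) := by
  decide +kernel

theorem mem_range_iso (hN : 0 < N) {n : ℕ} (hn : n ∈ orderSet) :
    ∃ g : IsoGroup N, orderOf g = n := by
  have hord : ∀ (σ : Equiv.Perm (Fin 8)) (hσ : σ ∈ alternatingGroup (Fin 8)) (o : ℕ), 0 < o →
      σ ^ o = 1 → (∀ k < o, 0 < k → σ ^ k ≠ 1) →
      orderOf (⟨σ, hσ⟩ : alternatingGroup (Fin 8)) = o := by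
    intro σ hσ o ho h1 h2
    rw [← Subgroup.orderOf_coe]
    exact (orderOf_eq_iff ho).mpr ⟨h1, h2⟩
  have hsplit : n ∈ [1, 2, 3, 4, 5, 6, 7, 15] ∨ n ∈ [8, 10, 12] := by
    simp only [orderSet, Set.mem_insert_iff, Set.mem_singleton_iff] at hn
    simp only [List.mem_cons, List.not_mem_nil, or_false]
    omega
  rcases hsplit with h | h
  · obtain ⟨c, -, hc, h1, h2⟩ := witness_plain n h
    have hpos : 0 < n := by
      simp only [List.mem_cons, List.not_mem_nil, or_false] at h
      omega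
    refine ⟨SemidirectProduct.inr ⟨_, hc⟩, ?_⟩
    rw [orderOf_injective _ SemidirectProduct.inr_injective]
    exact hord _ hc n hpos h1 h2
  · obtain ⟨o, ho, rfl⟩ : ∃ o ∈ [4, 5, 6], 2 * o = n := by
      simp only [List.mem_cons, List.not_mem_nil, or_false] at h
      rcases h with rfl | rfl | rfl
      exacts [⟨4, by simp, rfl⟩, ⟨5, by simp, rfl⟩, ⟨6, by simp, rfl⟩]
    obtain ⟨c, -, hc, h1, h2, i, j, hne⟩ := witness_double o ho
    have hpos : 0 < o := by
      simp only [List.mem_cons, List.not_mem_nil, or_false] at ho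
      omega
    have hσ := hord _ hc o hpos h1 h2
    refine ⟨⟨Multiplicative.ofAdd (fun _ => heartPair c.2.1 c.2.2), ⟨_, hc⟩⟩, ?_⟩
    set g : IsoGroup N := ⟨Multiplicative.ofAdd (fun _ => heartPair c.2.1 c.2.2), ⟨_, hc⟩⟩ with hg
    have hd := orderOf_dvd_of_pow_eq_one (pow_two_orderOf g)
    have hdiv : o ∣ orderOf g := by
      rw [← hσ]
      exact orderOf_map_dvd SemidirectProduct.rightHom g
    rw [show orderOf g.right = o from hσ] at hd
    have hne' : orderOf g ≠ o := by
      intro e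
      refine hne ?_
      have h := pow_left g o ⟨0, hN⟩ i j
      rw [← e, pow_orderOf_eq_one, e] at h
      exact h.symm
    obtain ⟨q, hq⟩ := hdiv
    rw [hq, mul_comm 2 o] at hd
    have hq2 : q ∣ 2 := (Nat.mul_dvd_mul_iff_left hpos).mp hd
    rcases (Nat.dvd_prime Nat.prime_two).mp hq2 with rfl | rfl
    · exact absurd (by rw [hq, mul_one]) hne'
    · rw [hq, mul_comm]

theorem exists_isospectral (n : ℕ) : ∃ (H : Type) (_ : Group H) (_ : Fintype H),
    n < Fintype.card H ∧ Set.range (orderOf : H → ℕ) = orderSet := by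
  classical
  haveI : Finite heart := inferInstance
  haveI : Finite (IsoGroup (n + 1)) :=
    Finite.of_equiv _ SemidirectProduct.equivProd.symm
  letI : Fintype (IsoGroup (n + 1)) := Fintype.ofFinite _
  refine ⟨IsoGroup (n + 1), inferInstance, inferInstance, ?_, ?_⟩
  · have hinj : Function.Injective (fun x : Mdl (n + 1) =>
        (SemidirectProduct.inl (Multiplicative.ofAdd x) : IsoGroup (n + 1))) :=
      fun x y e => Multiplicative.ofAdd.injective (SemidirectProduct.inl_injective e)
    have h1 := Nat.card_le_card_of_injective _ hinj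
    rw [Nat.card_fun, Nat.card_fin] at h1
    haveI : Nontrivial heart := ⟨heartPair 0 1, 0, fun e => by
      have := congrArg (fun f : heart => f.1 0 2) e
      revert this
      decide +kernel⟩
    have h2 : 2 ≤ Nat.card heart := Finite.one_lt_card
    rw [← Nat.card_eq_fintype_card]
    calc n < 2 ^ (n + 1) := (Nat.lt_two_pow_self).trans (Nat.pow_lt_pow_right (by norm_num) (by omega))
      _ ≤ Nat.card heart ^ (n + 1) := Nat.pow_le_pow_left h2 _
      _ ≤ _ := h1
  · ext m
    exact ⟨fun ⟨g, hg⟩ => hg ▸ orderOf_iso_mem g, mem_range_iso (by omega)⟩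

end Cfsg.Agent.J2Mult70
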