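import Cfsg.Agent.J2Mult70.Words
import Cfsg.Agent.J2Mult70.Central

/-!
# Lifts of the Hall–Janko generators to a central extension (helper70)
-/

set_option autoImplicit false
set_option maxRecDepth 100000

namespace Cfsg.Agent.J2Mult70

open Cfsg.Agent.CosetEnum Cfsg.Agent.Steiner.J2

universe u
variable {E : Type u} [Group E] (σ : E →* G) (hc : σ.ker ≤ Subgroup.center E)

/-- The word `(bcdcd)^5`. -/
def wW : List ℕ := repWord [1, 2, 3, 2, 3] 5

include hc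

theorem commute_pair {x y : E} {a b : ℕ} (hx : σ x = V [a]) (hy : σ y = V [b]) (p q : List ℕ)
    (hp : sameAction ([a] ++ p) (p ++ [a]) = true) (hq : sameAction ([a] ++ q) (q ++ [a]) = true)
    (hpq : sameAction (p ++ q ++ p.reverse ++ q.reverse) [b] = true)
    (hsurj : Function.Surjective σ)
    (hp5 : p.all (fun l => Nat.blt l 5) = true) (hq5 : q.all (fun l => Nat.blt l 5) = true) :
    Commute x y := by
  obtain ⟨u, hu⟩ := hsurj (V p)
  obtain ⟨v, hv⟩ := hsurj (V q)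
  refine commute_of_commutator σ hc (u := u) (v := v) ?_ ?_ ?_
  · rw [hx, hu]; have := word_eq hp; rw [V_append, V_append] at this; exact this
  · rw [hx, hv]; have := word_eq hq; rw [V_append, V_append] at this; exact this
  · rw [hu, hv, hy, ← word_eq hpq, V_append, V_append, V_append, V_reverse p hp5, V_reverse q hq5]

/-- In a central extension where the chosen pair of commuting involutions lifts to commuting
elements, the generators lift to involutions satisfying all the relations. -/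
theorem exists_good (hsurj : Function.Surjective σ)
    (hE : ∀ x y : E, σ x = V [4] → σ y = V (wW ++ [4] ++ wW.reverse) → Commute x y) :
    ∃ a b c d e : E, σ a = V [0] ∧ σ b = V [1] ∧ σ c = V [2] ∧ σ d = V [3] ∧ σ e = V [4] ∧
      a * a = 1 ∧ b * b = 1 ∧ c * c = 1 ∧ d * d = 1 ∧ e * e = 1 ∧
      Commute a c ∧ Commute a d ∧ Commute a e ∧ Commute b d ∧ Commute b e ∧ Commute c e ∧
      (a * b) ^ 5 = 1 ∧ (b * c) ^ 3 = 1 ∧ (c * d) ^ 8 = 1 ∧ (d * e) ^ 3 = 1 ∧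
      a = (c * d) ^ 4 ∧ ((b * c * d * c * d) ^ 5 * e) ^ 3 = 1 := by
  have cen : ∀ {k : E}, σ k = 1 → ∀ y, Commute k y := fun h y => central_of σ hc h y
  have sq_mul : ∀ {k : E}, σ k = 1 → ∀ x : E, x * k * (x * k) = x * x * (k * k) := fun h x =>
    by rw [mul_assoc x, ← mul_assoc _ x, (cen h x).eq]; group
  obtain ⟨w, hw⟩ := hsurj (V wW)
  have hwW : V wW.reverse = (V wW)⁻¹ := V_reverse _ (by decide +kernel)
  have hwi : σ w⁻¹ = V wW.reverse := by rw [map_inv, hw, hwW]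
  obtain ⟨e₁, he₁⟩ := hsurj (V [4])
  -- an involution lift of `e`
  have hrot : σ (e₁ * (w * e₁ * w⁻¹) * (w * (w * e₁ * w⁻¹) * w⁻¹)) = 1 := by
    simp only [map_mul, hwi, hw, he₁]
    simp only [← V_append, List.append_assoc]
    exact word_eq (W := []) (by decide +kernel)
  have hsq4 : V [4] * V [4] = 1 := by
    rw [← V_append]; exact word_eq (W := []) (by decide +kernel)
  have hw3 : V wW * V wW * V wW = 1 := by
    rw [← V_append, ← V_append]; exact word_eq (W := []) (by decide +kernel)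
  obtain ⟨e₀, he₀, he₀s⟩ : ∃ e₀ : E, σ e₀ = V [4] ∧ e₀ * e₀ = 1 := by
    set e₂ := w * e₁ * w⁻¹ with he₂d
    set e₃ := w * e₂ * w⁻¹ with he₃d
    have h12 : Commute e₁ e₂ := hE _ _ he₁ (by
      rw [he₂d, map_mul, map_mul, hwi, hw, he₁, V_append, V_append])
    set k := e₁ * e₂ * e₃ with hkd
    have hk : σ k = 1 := hrot
    set z := e₁ * e₁ with hzd
    have hz : σ z = 1 := by rw [hzd, map_mul, he₁, hsq4]
    have hzw : w * z * w⁻¹ = z := by rw [← (cen hz w).eq]; group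
    have h2 : e₂ * e₂ = z := by
      rw [show e₂ * e₂ = w * z * w⁻¹ by rw [he₂d, hzd]; group, hzw]
    have h3 : e₃ * e₃ = z := by
      rw [show e₃ * e₃ = w * (e₂ * e₂) * w⁻¹ by rw [he₃d]; group, h2, hzw]
    have h123 : e₁ * e₂ = e₃⁻¹ * k := by
      have : e₁ * e₂ = k * e₃⁻¹ := by rw [hkd]; group
      rw [this, (cen hk e₃⁻¹).eq]
    have hzz : z * z = z⁻¹ * (k * k) := by
      calc z * z = e₁ * e₁ * (e₂ * e₂) := by rw [h2]
        _ = e₁ * (e₁ * e₂) * e₂ := by group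
        _ = e₁ * e₂ * (e₁ * e₂) := by
            rw [show e₁ * e₂ * (e₁ * e₂) = e₁ * (e₂ * e₁) * e₂ by group, ← h12.eq]
        _ = e₃⁻¹ * e₃⁻¹ * (k * k) := by rw [h123, sq_mul hk]
        _ = z⁻¹ * (k * k) := by rw [← h3, mul_inv_rev e₃ e₃]
    refine ⟨e₁ * (k⁻¹ * z), by simp [hk, hz, he₁], ?_⟩
    have hkz : σ (k⁻¹ * z) = 1 := by simp [hk, hz]
    rw [sq_mul hkz, ← hzd,
      show k⁻¹ * z * (k⁻¹ * z) = k⁻¹ * k⁻¹ * (z * z) by
        rw [mul_assoc, ← mul_assoc z, (cen hz k⁻¹).eq]; group,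
      hzz]
    have h1 : Commute (k⁻¹ * k⁻¹) z⁻¹ := ((cen hk z⁻¹).inv_left).mul_left (cen hk z⁻¹).inv_left
    rw [← mul_assoc (k⁻¹ * k⁻¹), h1.eq]; group
  -- an involution lift of `d`
  obtain ⟨P, hP⟩ := hsurj (V [4, 3])
  have hPi : σ P⁻¹ = V [3, 4] := by rw [map_inv, hP, ← V_reverse _ (by decide +kernel)]; rfl
  obtain ⟨d₀, hd₀, hd₀s⟩ : ∃ d₀ : E, σ d₀ = V [3] ∧ d₀ * d₀ = 1 := by
    refine ⟨P * e₀ * P⁻¹, ?_, ?_⟩
    · rw [map_mul, map_mul, hPi, hP, he₀, ← V_append, ← V_append]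
      exact word_eq (by decide +kernel)
    · rw [show P * e₀ * P⁻¹ * (P * e₀ * P⁻¹) = P * (e₀ * e₀) * P⁻¹ by group, he₀s]; group
  have hac : ∀ {x y : E}, σ x = V [0] → σ y = V [2] → Commute x y := fun hx hy =>
    (commute_pair σ hc hy hx [4] [3, 2, 3, 4, 3, 2, 3] (by decide +kernel) (by decide +kernel)
      (by decide +kernel) hsurj (by decide +kernel) (by decide +kernel)).symm
  have had : ∀ {x y : E}, σ x = V [0] → σ y = V [3] → Commute x y := fun hx hy =>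
    (commute_pair σ hc hy hx [4, 3, 2, 3, 4] [1, 0, 4, 3, 2, 1, 0, 1, 3, 4] (by decide +kernel)
      (by decide +kernel) (by decide +kernel) hsurj (by decide +kernel) (by decide +kernel)).symm
  have hae : ∀ {x y : E}, σ x = V [0] → σ y = V [4] → Commute x y := fun hx hy =>
    (commute_pair σ hc hy hx [2] [1, 0, 2, 1, 0, 1] (by decide +kernel) (by decide +kernel)
      (by decide +kernel) hsurj (by decide +kernel) (by decide +kernel)).symm
  have hbd : ∀ {x y : E}, σ x = V [1] → σ y = V [3] → Commute x y := fun hx hy =>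
    (commute_pair σ hc hy hx [0, 1, 0, 4, 3, 2, 3, 4] [0, 1, 0, 4, 3, 2, 1, 3, 4]
      (by decide +kernel) (by decide +kernel) (by decide +kernel) hsurj (by decide +kernel)
      (by decide +kernel)).symm
  have hbe : ∀ {x y : E}, σ x = V [1] → σ y = V [4] → Commute x y := fun hx hy =>
    (commute_pair σ hc hy hx [0, 1, 0, 2] [0, 1, 0, 2, 1] (by decide +kernel) (by decide +kernel)
      (by decide +kernel) hsurj (by decide +kernel) (by decide +kernel)).symm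
  have hce : ∀ {x y : E}, σ x = V [2] → σ y = V [4] → Commute x y := fun hx hy =>
    (commute_pair σ hc hy hx [0] [1, 0, 1, 0, 2, 1] (by decide +kernel) (by decide +kernel)
      (by decide +kernel) hsurj (by decide +kernel) (by decide +kernel)).symm
  have hcd4 : V [2, 3] ^ 4 = V [0] := by
    simp only [pow_succ, pow_zero, one_mul, ← V_append]
    exact word_eq (by decide +kernel)
  -- the fourth power of `cd` for arbitrary lifts of `c`
  have hfour : ∀ c₁ : E, σ c₁ = V [2] → σ ((c₁ * d₀) ^ 4) = V [0] ∧ σ (c₁ * c₁) = 1 ∧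
      (c₁ * d₀) ^ 4 * (c₁ * d₀) ^ 4 = (c₁ * c₁) ^ 4 := by
    intro c₁ hc₁
    have h0 : σ ((c₁ * d₀) ^ 4) = V [0] := by
      rw [map_pow, map_mul, hc₁, hd₀, ← V_append]; exact hcd4
    have hz : σ (c₁ * c₁) = 1 := by
      rw [map_mul, hc₁, ← V_append]; exact word_eq (W := []) (by decide +kernel)
    refine ⟨h0, hz, ?_⟩
    have hconj : d₀ * (c₁ * d₀) * d₀⁻¹ = (c₁ * d₀)⁻¹ * (c₁ * c₁) := by
      rw [← (cen hz _).eq, mul_inv_rev, inv_eq_of_mul_eq_one_right hd₀s]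
      calc d₀ * (c₁ * d₀) * d₀ = d₀ * c₁ * (d₀ * d₀) := by group
        _ = d₀ * c₁ := by rw [hd₀s, mul_one]
        _ = d₀ * (c₁ * c₁) * c₁⁻¹ := by group
        _ = c₁ * c₁ * (d₀ * c₁⁻¹) := by rw [← (cen hz d₀).eq]; group
    have hfix : d₀ * (c₁ * d₀) ^ 4 * d₀⁻¹ = (c₁ * d₀) ^ 4 := by
      rw [← (had h0 hd₀).eq]; group
    rw [← conj_pow, hconj, central_pow_mul σ hc hz, inv_pow] at hfix
    calc _ = (c₁ * d₀) ^ 4 * (((c₁ * d₀) ^ 4)⁻¹ * (c₁ * c₁) ^ 4) := by rw [hfix]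
      _ = _ := by group
  obtain ⟨c₁, hc₁⟩ := hsurj (V [2])
  obtain ⟨ha₁, hz₁, ha₁s⟩ := hfour c₁ hc₁
  obtain ⟨a₂, ha₂, ha₂s⟩ : ∃ a₂ : E, σ a₂ = V [0] ∧ a₂ * a₂ = 1 := by
    have hm : σ ((c₁ * c₁) ^ 2)⁻¹ = 1 := by simp [hz₁]
    refine ⟨(c₁ * d₀) ^ 4 * ((c₁ * c₁) ^ 2)⁻¹, by rw [map_mul, ha₁, hm, mul_one], ?_⟩
    rw [sq_mul hm, ha₁s]; group
  obtain ⟨Q, hQ⟩ := hsurj (V [0, 1, 0, 1])
  have hQi : σ Q⁻¹ = V [1, 0, 1, 0] := by rw [map_inv, hQ, ← V_reverse _ (by decide +kernel)]; rfl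
  obtain ⟨b₀, hb₀, hb₀s⟩ : ∃ b₀ : E, σ b₀ = V [1] ∧ b₀ * b₀ = 1 := by
    refine ⟨Q * a₂ * Q⁻¹, ?_, ?_⟩
    · rw [map_mul, map_mul, hQi, hQ, ha₂, ← V_append, ← V_append]
      exact word_eq (by decide +kernel)
    · rw [show Q * a₂ * Q⁻¹ * (Q * a₂ * Q⁻¹) = Q * (a₂ * a₂) * Q⁻¹ by group, ha₂s]; group
  obtain ⟨R, hR⟩ := hsurj (V [1, 2])
  have hRi : σ R⁻¹ = V [2, 1] := by rw [map_inv, hR, ← V_reverse _ (by decide +kernel)]; rfl
  obtain ⟨c₀, hc₀, hc₀s⟩ : ∃ c₀ : E, σ c₀ = V [2] ∧ c₀ * c₀ = 1 := by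
    refine ⟨R * b₀ * R⁻¹, ?_, ?_⟩
    · rw [map_mul, map_mul, hRi, hR, hb₀, ← V_append, ← V_append]
      exact word_eq (by decide +kernel)
    · rw [show R * b₀ * R⁻¹ * (R * b₀ * R⁻¹) = R * (b₀ * b₀) * R⁻¹ by group, hb₀s]; group
  obtain ⟨ha₀, -, ha₀s⟩ := hfour c₀ hc₀
  rw [hc₀s, one_pow] at ha₀s
  -- `a b`
  obtain ⟨b, hb, hbs, hab⟩ : ∃ b : E, σ b = V [1] ∧ b * b = 1 ∧
      ((c₀ * d₀) ^ 4 * b) ^ 5 = 1 := by
    have hz : σ (((c₀ * d₀) ^ 4 * b₀) ^ 5) = 1 := by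
      rw [map_pow, map_mul, ha₀, hb₀, ← V_append]
      simp only [pow_succ, pow_zero, one_mul, ← V_append]
      exact word_eq (W := []) (by decide +kernel)
    have hzz := pow_sq_eq_one σ hc ha₀s hb₀s 5 hz
    refine ⟨b₀ * ((c₀ * d₀) ^ 4 * b₀) ^ 5, by rw [map_mul, hz, mul_one, hb₀], ?_, ?_⟩
    · rw [sq_mul hz, hb₀s, hzz, one_mul]
    · rw [← mul_assoc ((c₀ * d₀) ^ 4), central_pow_mul σ hc hz]
      generalize ((c₀ * d₀) ^ 4 * b₀) ^ 5 = z at hzz ⊢
      calc z * z ^ 5 = (z * z) * (z * z) * (z * z) := by simp only [pow_succ, pow_zero, one_mul, mul_assoc]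
        _ = 1 := by rw [hzz]; group
  -- `b c`
  obtain ⟨c, k, hkk, hk, hck, hbc⟩ : ∃ c k : E, k * k = 1 ∧ σ k = 1 ∧ c = c₀ * k ∧
      (b * c) ^ 3 = 1 := by
    have hz : σ ((b * c₀) ^ 3) = 1 := by
      rw [map_pow, map_mul, hb, hc₀, ← V_append]
      simp only [pow_succ, pow_zero, one_mul, ← V_append]
      exact word_eq (W := []) (by decide +kernel)
    have hzz := pow_sq_eq_one σ hc hbs hc₀s 3 hz
    refine ⟨_, (b * c₀) ^ 3, hzz, hz, rfl, ?_⟩
    rw [← mul_assoc b, central_pow_mul σ hc hz]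
    generalize (b * c₀) ^ 3 = z at hzz ⊢
    calc z * z ^ 3 = (z * z) * (z * z) := by simp only [pow_succ, pow_zero, one_mul, mul_assoc]
      _ = 1 := by rw [hzz]; group
  have hc' : σ c = V [2] := by rw [hck, map_mul, hk, mul_one, hc₀]
  have hcs : c * c = 1 := by rw [hck, sq_mul hk, hc₀s, hkk, one_mul]
  have hk4 : k ^ 4 = 1 := by
    calc k ^ 4 = (k * k) * (k * k) := by simp only [pow_succ, pow_zero, one_mul, mul_assoc]
      _ = 1 := by rw [hkk, one_mul]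
  have hacd : (c * d₀) ^ 4 = (c₀ * d₀) ^ 4 := by
    rw [hck, mul_assoc, (cen hk d₀).eq, ← mul_assoc, central_pow_mul σ hc hk, hk4, mul_one]
  -- `(we)^3`
  have hg : σ ((b * c * d₀ * c * d₀) ^ 5) = V wW := by
    have h5 : V [1] * V [2] * V [3] * V [2] * V [3] = V [1, 2, 3, 2, 3] := by
      simp only [← V_append]; rfl
    rw [map_pow, map_mul, map_mul, map_mul, map_mul, hb, hc', hd₀, h5]
    simp only [pow_succ, pow_zero, one_mul, ← V_append]; rfl
  obtain ⟨e, he, hes, hwe⟩ : ∃ e : E, σ e = V [4] ∧ e * e = 1 ∧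
      ((b * c * d₀ * c * d₀) ^ 5 * e) ^ 3 = 1 := by
    have hbdd := hbd hb hd₀
    generalize hgd : b * c * d₀ * c * d₀ = g at hg ⊢
    have hcube : σ (g ^ 5 * g ^ 5 * g ^ 5) = 1 := by rw [map_mul, map_mul, hg, hw3]
    have hbi : b⁻¹ = b := inv_eq_of_mul_eq_one_right hbs
    have hci : c⁻¹ = c := inv_eq_of_mul_eq_one_right hcs
    have hdi : d₀⁻¹ = d₀ := inv_eq_of_mul_eq_one_right hd₀s
    have hinv : b * d₀ * g * (b * d₀)⁻¹ = g⁻¹ := by
      rw [← hgd, hbdd.eq]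
      simp only [mul_inv_rev, hbi, hci, hdi]
      calc d₀ * b * (b * c * d₀ * c * d₀) * (b * d₀)
          = d₀ * (b * b) * c * d₀ * c * (d₀ * (b * d₀)) := by group
        _ = d₀ * c * d₀ * c * (d₀ * (d₀ * b)) := by rw [hbs, mul_one, hbdd.eq]
        _ = d₀ * c * d₀ * c * ((d₀ * d₀) * b) := by group
        _ = d₀ * (c * (d₀ * (c * b))) := by rw [hd₀s, one_mul]; group
    have hcubesq : g ^ 5 * g ^ 5 * g ^ 5 * (g ^ 5 * g ^ 5 * g ^ 5) = 1 := by
      rw [← pow_add, ← pow_add] at hcube ⊢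
      have h1 : b * d₀ * g ^ (5 + 5 + 5) * (b * d₀)⁻¹ = g ^ (5 + 5 + 5) := by
        rw [← (cen hcube _).eq]; group
      rw [← conj_pow, hinv, inv_pow] at h1
      calc _ = (g ^ (5 + 5 + 5))⁻¹ * g ^ (5 + 5 + 5) := by rw [h1]
        _ = 1 := inv_mul_cancel _
    generalize g ^ 5 = W at hg hcube hcubesq ⊢
    have hWi : σ W⁻¹ = V wW.reverse := by rw [map_inv, hg, hwW]
    have hE' : Commute e₀ (W * e₀ * W⁻¹) := hE _ _ he₀ (by
      rw [map_mul, map_mul, hWi, hg, he₀, V_append, V_append])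
    set e₂ := W * e₀ * W⁻¹ with he₂d
    set e₃ := W * e₂ * W⁻¹ with he₃d
    have hconj : ∀ x y : E, Commute x y → Commute (W * x * W⁻¹) (W * y * W⁻¹) := fun x y h =>
      (by
        show W * x * W⁻¹ * (W * y * W⁻¹) = W * y * W⁻¹ * (W * x * W⁻¹)
        rw [show W * x * W⁻¹ * (W * y * W⁻¹) = W * (x * y) * W⁻¹ by group, h.eq]; group)
    have h23 : Commute e₂ e₃ := hconj _ _ hE'
    have h30 : Commute e₃ e₀ := by
      have h := hconj _ _ h23
      have : W * e₃ * W⁻¹ = e₀ := by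
        rw [he₃d, he₂d, show W * (W * (W * e₀ * W⁻¹) * W⁻¹) * W⁻¹ =
          (W * W * W) * e₀ * (W * W * W)⁻¹ by group, (cen hcube e₀).eq]
        group
      rwa [this] at h
    have hs2 : e₂ * e₂ = 1 := by
      rw [he₂d, show W * e₀ * W⁻¹ * (W * e₀ * W⁻¹) = W * (e₀ * e₀) * W⁻¹ by group, he₀s]; group
    have hs3 : e₃ * e₃ = 1 := by
      rw [he₃d, show W * e₂ * W⁻¹ * (W * e₂ * W⁻¹) = W * (e₂ * e₂) * W⁻¹ by group, hs2]; group
    have hs : (W * e₀) ^ 3 = e₂ * e₃ * e₀ * (W * W * W) := by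
      have h0 : W * W * W * e₀ * (W * W * W)⁻¹ = e₀ := by rw [(cen hcube e₀).eq]; group
      calc (W * e₀) ^ 3 = e₂ * e₃ * (W * W * W * e₀ * (W * W * W)⁻¹) * (W * W * W) := by
            rw [he₃d, he₂d]; simp only [pow_succ, pow_zero, one_mul, mul_inv_rev, mul_assoc, inv_mul_cancel_left, mul_inv_cancel_left, mul_inv_cancel, inv_mul_cancel, mul_one]
        _ = _ := by rw [h0]
    have hσs : σ ((W * e₀) ^ 3) = 1 := by
      rw [map_pow, map_mul, hg, he₀, ← V_append]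
      simp only [pow_succ, pow_zero, one_mul, ← V_append]
      exact word_eq (W := []) (by decide +kernel)
    have hss : (W * e₀) ^ 3 * (W * e₀) ^ 3 = 1 := by
      rw [hs, sq_mul hcube, hcubesq, mul_one]
      have h1 : Commute (e₂ * e₃) e₀ := hE'.symm.mul_left h30
      calc e₂ * e₃ * e₀ * (e₂ * e₃ * e₀) = e₂ * e₃ * (e₀ * (e₂ * e₃)) * e₀ := by group
        _ = e₂ * e₃ * (e₂ * e₃) * (e₀ * e₀) := by rw [← h1.eq]; group
        _ = e₂ * (e₃ * e₂) * e₃ := by rw [he₀s]; group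
        _ = (e₂ * e₂) * (e₃ * e₃) := by rw [← h23.eq]; group
        _ = 1 := by rw [hs2, hs3, one_mul]
    refine ⟨e₀ * (W * e₀) ^ 3, by rw [map_mul, hσs, mul_one, he₀], ?_, ?_⟩
    · rw [sq_mul hσs, he₀s, hss, one_mul]
    · rw [← mul_assoc W, central_pow_mul σ hc hσs]
      generalize (W * e₀) ^ 3 = z at hss ⊢
      calc z * z ^ 3 = (z * z) * (z * z) := by simp only [pow_succ, pow_zero, one_mul, mul_assoc]
        _ = 1 := by rw [hss, one_mul]
  -- `d e`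
  obtain ⟨d, z, hzz, hz, hdz, hde⟩ : ∃ d z : E, z * z = 1 ∧ σ z = 1 ∧ d = d₀ * z ∧
      (d * e) ^ 3 = 1 := by
    have hz : σ ((d₀ * e) ^ 3) = 1 := by
      rw [map_pow, map_mul, hd₀, he, ← V_append]
      simp only [pow_succ, pow_zero, one_mul, ← V_append]
      exact word_eq (W := []) (by decide +kernel)
    have hzz := pow_sq_eq_one σ hc hd₀s hes 3 hz
    refine ⟨_, (d₀ * e) ^ 3, hzz, hz, rfl, ?_⟩
    rw [mul_assoc d₀, (cen hz e).eq, ← mul_assoc, central_pow_mul σ hc hz]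
    generalize (d₀ * e) ^ 3 = z at hzz ⊢
    calc z * z ^ 3 = (z * z) * (z * z) := by simp only [pow_succ, pow_zero, one_mul, mul_assoc]
      _ = 1 := by rw [hzz, one_mul]
  have hd : σ d = V [3] := by rw [hdz, map_mul, hz, mul_one, hd₀]
  have hds : d * d = 1 := by rw [hdz, sq_mul hz, hd₀s, hzz, one_mul]
  have hz4 : z ^ 4 = 1 := by
    calc z ^ 4 = (z * z) * (z * z) := by simp only [pow_succ, pow_zero, one_mul, mul_assoc]
      _ = 1 := by rw [hzz, one_mul]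
  have hacd' : (c * d) ^ 4 = (c₀ * d₀) ^ 4 := by
    rw [hdz, ← mul_assoc, central_pow_mul σ hc hz, hz4, mul_one, hacd]
  have hgz : b * c * d * c * d = b * c * d₀ * c * d₀ := by
    have : c * d * c * d = c * d₀ * c * d₀ := by
      rw [mul_assoc (c * d) c, hdz, ← mul_assoc c d₀ z, sq_mul hz, hzz]; group
    calc b * c * d * c * d = b * (c * d * c * d) := by group
      _ = _ := by rw [this]; group
  refine ⟨(c₀ * d₀) ^ 4, b, c, d, e, ha₀, hb, hc', hd, he, ha₀s, hbs, hcs, hds, hes,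
    hac ha₀ hc', had ha₀ hd, hae ha₀ he, hbd hb hd, hbe hb he, hce hc' he, hab, hbc, ?_, hde,
    hacd'.symm, by rw [hgz]; exact hwe⟩
  calc (c * d) ^ 8 = (c * d) ^ 4 * (c * d) ^ 4 := by group
    _ = 1 := by rw [hacd', ha₀s]

end Cfsg.Agent.J2Mult70
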