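import Cfsg.Agent.J2Mult70.Elements

/-!
# A scan of conjugacy representatives in the Hall–Janko group (helper70)
-/

set_option autoImplicit false
set_option maxRecDepth 100000

namespace Cfsg.Agent.J2Mult70

open Cfsg.Agent.CosetEnum

/-- Iterate a product of transversal members. -/
noncomputable def iterApp (P3 P2 P1 P0 n p : ℕ) : ℕ :=
  Nat.rec (motive := fun _ => ℕ) p (fun _ ih => forceNat ih (fun q => elemApp P3 P2 P1 P0 q)) n

/-- The power fixes the base. -/
noncomputable def powFix (P3 P2 P1 P0 n : ℕ) : Bool :=
  base4.all fun p => Nat.beq (iterApp P3 P2 P1 P0 n p) p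

/-- The square is in the class of 315 involutions. -/
noncomputable def sqInClass (P3 P2 P1 P0 : ℕ) : Bool :=
  Data.cls.any fun C => base4.all fun p => Nat.beq (iterApp P3 P2 P1 P0 2 p) (app C p)

/-- The order divides one of five numbers, and elements of order four square into the class. -/
noncomputable def scanOne (P3 P2 P1 P0 : ℕ) : Bool :=
  (powFix P3 P2 P1 P0 8 || powFix P3 P2 P1 P0 12 || powFix P3 P2 P1 P0 7 ||
      powFix P3 P2 P1 P0 10 || powFix P3 P2 P1 P0 15) &&
    (!powFix P3 P2 P1 P0 4 || powFix P3 P2 P1 P0 2 || sqInClass P3 P2 P1 P0)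

/-- The scan over three levels. -/
noncomputable def scanRow (P0 P1 : ℕ) : Bool :=
  Data.trans2.all fun P2 => Data.trans3.all fun P3 => scanOne P3 P2 P1 P0

/-- The scan for part of the second level. -/
noncomputable def scanPart (r a c : ℕ) : Bool :=
  allRange (fun j => scanRow (UP 0 r) (UP 1 j)) a c

theorem scan0a : scanPart 0 0 32 = true := by decide +kernel
theorem scan0b : scanPart 0 32 31 = true := by decide +kernel
theorem scan1a : scanPart 1 0 32 = true := by decide +kernel
theorem scan1b : scanPart 1 32 31 = true := by decide +kernel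
theorem scan3a : scanPart 3 0 32 = true := by decide +kernel
theorem scan3b : scanPart 3 32 31 = true := by decide +kernel

theorem scan_spec (t : Tup) (h : t.1.val ∈ roots3) :
    scanOne (UP 3 t.2.2.2.val) (UP 2 t.2.2.1.val) (UP 1 t.2.1.val) (UP 0 t.1.val) = true := by
  have hrow : scanRow (UP 0 t.1.val) (UP 1 t.2.1.val) = true := by
    have hj : t.2.1.val < 63 := t.2.1.2
    simp only [roots3, List.mem_cons, List.not_mem_nil, or_false] at h
    rcases h with h | h | h <;> rw [h] <;> rcases lt_or_ge t.2.1.val 32 with h2 | h2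
    · exact allRange_spec scan0a _ (Nat.zero_le _) (by omega)
    · exact allRange_spec scan0b _ h2 (by omega)
    · exact allRange_spec scan1a _ (Nat.zero_le _) (by omega)
    · exact allRange_spec scan1b _ h2 (by omega)
    · exact allRange_spec scan3a _ (Nat.zero_le _) (by omega)
    · exact allRange_spec scan3b _ h2 (by omega)
  rw [scanRow, List.all_eq_true] at hrow
  have h3 := hrow _ (UP_mem 2 t.2.2.1.2)
  rw [List.all_eq_true] at h3
  exact h3 _ (UP_mem 3 t.2.2.2.2)

end Cfsg.Agent.J2Mult70
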