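import Cfsg.Agent.J2Mult70.Scan

/-!
# The element orders of the Hall–Janko group and of the symmetric group of degree 8 (helper70)
-/

set_option autoImplicit false
set_option maxRecDepth 100000

namespace Cfsg.Agent.J2Mult70

open Cfsg.Agent.CosetEnum Cfsg.Agent.Steiner.J2

/-- The set of element orders. -/
def orderSet : Set ℕ := {1, 2, 3, 4, 5, 6, 7, 8, 10, 12, 15}

theorem act_pow (g : G) (n : ℕ) : act (g ^ n) = act g ^ n := by
  rw [act, act, map_pow, inv_pow]

theorem iterApp_eq (t : Tup) (n : ℕ) (i : Fin tbl.n) :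
    iterApp (UP 3 t.2.2.2.val) (UP 2 t.2.2.1.val) (UP 1 t.2.1.val) (UP 0 t.1.val) n i
      = (act (F t ^ n) i : ℕ) := by
  induction n with
  | zero => rw [pow_zero, act_one]; rfl
  | succ n ih =>
    show forceNat (iterApp _ _ _ _ n i) _ = _
    rw [forceNat_eq, ih, elemApp_F t _, act_pow, act_pow, pow_succ', Equiv.Perm.mul_apply]

theorem base4_mem (k : Fin 4) : (bp k : ℕ) ∈ base4 := by
  fin_cases k <;> simp [bp, base4]

theorem pow_eq_one_of_powFix (t : Tup) (n : ℕ)
    (h : powFix (UP 3 t.2.2.2.val) (UP 2 t.2.2.1.val) (UP 1 t.2.1.val) (UP 0 t.1.val) n = true) :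
    F t ^ n = 1 := by
  rw [powFix, List.all_eq_true] at h
  refine eq_one_of_fix fun k => Fin.ext ?_
  rw [← iterApp_eq t n (bp k)]
  exact Nat.eq_of_beq_eq_true (h _ (base4_mem k))

theorem pow_ne_one_of_powFix (t : Tup) (n : ℕ)
    (h : powFix (UP 3 t.2.2.2.val) (UP 2 t.2.2.1.val) (UP 1 t.2.1.val) (UP 0 t.1.val) n = false) :
    F t ^ n ≠ 1 := by
  intro he
  have h1 : powFix (UP 3 t.2.2.2.val) (UP 2 t.2.2.1.val) (UP 1 t.2.1.val) (UP 0 t.1.val) n
      = true := by
    rw [powFix, List.all_eq_true]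
    intro p hp
    obtain ⟨k, rfl⟩ : ∃ k : Fin 4, (bp k : ℕ) = p := by
      simp only [base4, List.mem_cons, List.not_mem_nil, or_false] at hp
      rcases hp with rfl | rfl | rfl | rfl
      exacts [⟨0, rfl⟩, ⟨1, rfl⟩, ⟨2, rfl⟩, ⟨3, rfl⟩]
    rw [iterApp_eq t n (bp k), he, act_one, Equiv.Perm.one_apply]
    exact Nat.beq_refl _
  rw [h] at h1
  exact Bool.false_ne_true h1

theorem orderOf_mem (g : G) : orderOf g ∈ orderSet := by
  obtain ⟨k, t, ht, hr⟩ := exists_conj_root g
  have h := scan_spec t hr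
  rw [scanOne, Bool.and_eq_true] at h
  simp only [Bool.or_eq_true] at h
  have hord : orderOf g = orderOf (F t) := by
    rw [← ht]
    have hs : SemiconjBy k (k⁻¹ * g * k) g := by
      show k * (k⁻¹ * g * k) = g * k
      group
    exact (hs.orderOf_eq).symm
  rw [hord]
  have key : ∀ n, F t ^ n = 1 → 0 < n → (∀ d ∈ n.divisors, d ∈ orderSet) →
      orderOf (F t) ∈ orderSet := fun n h1 h0 h2 =>
    h2 _ (Nat.mem_divisors.mpr ⟨orderOf_dvd_of_pow_eq_one h1, h0.ne'⟩)
  rcases h.1 with ((((h1 | h1) | h1) | h1) | h1) <;>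
    refine key _ (pow_eq_one_of_powFix t _ h1) (by norm_num) ?_ <;>
    · simp only [orderSet, Set.mem_insert_iff, Set.mem_singleton_iff]
      decide

theorem orderW_ok : Data.orderW.all (fun e =>
    e.2.all (fun l => Nat.blt l 5) && Nat.blt 0 e.1 &&
      base4.all (fun p => Nat.beq (tbl.run (repWord e.2 e.1) p) p) &&
      allRange (fun m => base4.any fun p => !Nat.beq (tbl.run (repWord e.2 m) p) p) 1 (e.1 - 1))
      = true := by
  decide +kernel

theorem mem_range_orderOf {n : ℕ} (h : n ∈ orderSet) : ∃ g : G, orderOf g = n := by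
  obtain ⟨W, hW⟩ : ∃ W, (n, W) ∈ Data.orderW := by
    have : ∀ m ∈ [1, 2, 3, 4, 5, 6, 7, 8, 10, 12, 15],
        (Data.orderW.map Prod.fst).contains m = true := by decide +kernel
    have h' := this n (by simpa [orderSet] using h)
    rw [List.contains_iff_mem, List.mem_map] at h'
    obtain ⟨⟨m, W⟩, hm, rfl⟩ := h'
    exact ⟨W, hm⟩
  have h' := List.all_eq_true.mp orderW_ok _ hW
  simp only [Bool.and_eq_true, List.all_eq_true] at h'
  obtain ⟨⟨⟨hlt, hpos⟩, hfix⟩, hne⟩ := h'
  have hlt' : ∀ m, ∀ l ∈ repWord W m, l < tbl.nl := by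
    intro m
    induction m with
    | zero => intro l hl; exact absurd hl List.not_mem_nil
    | succ m ih =>
      intro l hl
      rcases List.mem_append.mp hl with h | h
      · exact Nat.le_of_ble_eq_true (hlt l h)
      · exact ih l h
  have hev : ∀ m, V W ^ m = V (repWord W m) := fun m => (evalWord_repWord _ _ _).symm
  have hrun : ∀ m (p : Fin tbl.n), (act (V W ^ m) p : ℕ) = tbl.run (repWord W m) p := fun m p => by
    rw [hev]; exact rep.hom_inv_apply nodup (hlt' m) p
  refine ⟨V W, (orderOf_eq_iff (Nat.le_of_ble_eq_true hpos)).mpr ⟨?_, fun m hm hm0 hone => ?_⟩⟩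
  · refine eq_one_of_fix fun k => Fin.ext ?_
    rw [hrun]
    exact Nat.eq_of_beq_eq_true (hfix _ (base4_mem k))
  · have := allRange_spec hne m hm0 (by omega)
    rw [List.any_eq_true] at this
    obtain ⟨p, hp, hpne⟩ := this
    have hp100 : p < tbl.n := by
      simp only [base4, List.mem_cons, List.not_mem_nil, or_false] at hp
      rcases hp with rfl | rfl | rfl | rfl <;> simp [tbl]
    have h2 := hrun m ⟨p, hp100⟩
    rw [hone, act_one, Equiv.Perm.one_apply] at h2
    rw [show tbl.run (repWord W m) p = p from h2.symm, Bool.not_eq_true', Nat.beq_refl] at hpne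
    exact Bool.false_ne_true hpne.symm

theorem range_orderOf : Set.range (orderOf : G → ℕ) = orderSet := by
  ext n
  exact ⟨fun ⟨g, hg⟩ => hg ▸ orderOf_mem g, mem_range_orderOf⟩

theorem range_orderOf_perm8 : Set.range (orderOf : Equiv.Perm (Fin 8) → ℕ) = orderSet := by
  have hparts : ∀ m ∈ ({2, 2, 2, 2, 3, 3, 4, 4, 5, 6, 7, 8} : Multiset ℕ).powerset,
      m.sum ≤ 8 → m.lcm ∈ [1, 2, 3, 4, 5, 6, 7, 8, 10, 12, 15] := by decide +kernel
  ext n
  constructor
  · rintro ⟨σ, rfl⟩
    have h8 : σ.cycleType.sum ≤ 8 := by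
      rw [Equiv.Perm.sum_cycleType]; simpa using σ.support.card_le_univ
    have hle : σ.cycleType ≤ ({2, 2, 2, 2, 3, 3, 4, 4, 5, 6, 7, 8} : Multiset ℕ) := by
      rw [Multiset.le_iff_count]
      intro a
      rcases Nat.eq_zero_or_pos (σ.cycleType.count a) with h0 | h0
      · omega
      have ha2 : 2 ≤ a := Equiv.Perm.two_le_of_mem_cycleType (Multiset.count_pos.mp h0)
      have hrep : Multiset.replicate (σ.cycleType.count a) a ≤ σ.cycleType :=
        Multiset.le_count_iff_replicate_le.mp le_rfl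
      have hmul : σ.cycleType.count a * a ≤ 8 := by
        refine le_trans ?_ h8
        obtain ⟨r, hr⟩ := Multiset.le_iff_exists_add.mp hrep
        calc σ.cycleType.count a * a = (Multiset.replicate (σ.cycleType.count a) a).sum := by simp
          _ ≤ _ := by conv_rhs => rw [hr, Multiset.sum_add]
                      exact Nat.le_add_right _ _
      have ha8 : a ≤ 8 := le_trans (Nat.le_mul_of_pos_left a h0) hmul
      interval_cases a <;> simp <;> omega
    have := hparts _ (Multiset.mem_powerset.mpr hle) h8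
    rw [Equiv.Perm.lcm_cycleType] at this
    simpa [orderSet] using this
  · intro hn
    have hex : ∀ m ∈ [1, 2, 3, 4, 5, 6, 7, 8, 10, 12, 15], ∃ l ∈
        [[], [[0, 1]], [[0, 1, 2]], [[0, 1, 2, 3]], [[0, 1, 2, 3, 4]], [[0, 1, 2], [3, 4]],
          [[0, 1, 2, 3, 4, 5, 6]], [[0, 1, 2, 3, 4, 5, 6, 7]], [[0, 1, 2, 3, 4], [5, 6]],
          [[0, 1, 2, 3], [4, 5, 6]], [[0, 1, 2, 3, 4], [5, 6, 7]]],
        ((List.map (List.formPerm : List (Fin 8) → Equiv.Perm (Fin 8)) l).prod ^ m = 1 ∧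
          ∀ k < m, 0 < k → (List.map (List.formPerm : List (Fin 8) → Equiv.Perm (Fin 8)) l).prod ^ k ≠ 1) := by
      decide +kernel
    obtain ⟨l, -, h1, h2⟩ := hex n (by simpa [orderSet] using hn)
    have hpos : 0 < n := by
      simp only [orderSet, Set.mem_insert_iff, Set.mem_singleton_iff] at hn
      omega
    exact ⟨_, (orderOf_eq_iff hpos).mpr ⟨h1, h2⟩⟩

end Cfsg.Agent.J2Mult70
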