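import Cfsg.Agent.J2Mult70.Aut
import Cfsg.Agent.J2Mult70.Isospectral
import Cfsg.Agent.Lib.Steiner.Ico.Iso

/-!
# Transport to the icosian model (helper70)
-/

set_option autoImplicit false

namespace Cfsg.Agent.J2Mult70

open Cfsg.Spor Cfsg.Agent.Steiner.Ico

theorem card_out_congr {H K : Type} [Group H] [Group K] (e : H ≃* K) :
    Nat.card (Cfsg.Out H) = Nat.card (Cfsg.Out K) := by
  refine Nat.card_congr (QuotientGroup.congr (Cfsg.Inn H) (Cfsg.Inn K) (MulAut.congr e) ?_).toEquiv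
  ext φ
  constructor
  · rintro ⟨_, ⟨g, rfl⟩, rfl⟩
    exact ⟨e g, by ext x; simp [MulAut.congr]⟩
  · rintro ⟨k, rfl⟩
    exact ⟨MulAut.conj (e.symm k), ⟨_, rfl⟩, by ext x; simp [MulAut.congr]⟩

theorem card_out_J2 : Nat.card (Cfsg.Out Spor.J2) = 2 :=
  (card_out_congr presEquiv).symm.trans card_out

theorem range_orderOf_J2 : Set.range (orderOf : Spor.J2 → ℕ) = orderSet := by
  rw [← range_orderOf]
  ext n
  constructor
  · rintro ⟨x, rfl⟩
    exact ⟨presEquiv.symm x, MulEquiv.orderOf_eq _ _⟩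
  · rintro ⟨x, rfl⟩
    exact ⟨presEquiv x, MulEquiv.orderOf_eq _ _⟩

end Cfsg.Agent.J2Mult70
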