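import Cfsg.Agent.Lib.Steiner.J2.Main

/-!
# Word identities in the presented Hall–Janko group (helper70)

Equalities of words in the five involutions, read off from the faithful action on 100 points.
-/

set_option autoImplicit false
set_option maxRecDepth 100000

namespace Cfsg.Agent.J2Mult70

open Cfsg.Agent.CosetEnum Cfsg.Agent.Steiner.J2

/-- The presented group on five involutions. -/
abbrev G : Type := Cfsg.Agent.Steiner.J2.pres.Gp

/-- The image of a word. -/
abbrev V (W : List ℕ) : G := evalWord Cfsg.Agent.Steiner.J2.pres.val W

/-- The two words act identically on the 100 points. -/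
noncomputable def sameAction (U W : List ℕ) : Bool :=
  U.all (fun l => Nat.blt l 5) && W.all (fun l => Nat.blt l 5) &&
    allRange (fun i => Nat.beq (tbl.run U i) (tbl.run W i)) 0 100

theorem word_eq {U W : List ℕ} (h : sameAction U W = true) : V U = V W := by
  rw [sameAction, Bool.and_eq_true, Bool.and_eq_true, List.all_eq_true, List.all_eq_true] at h
  obtain ⟨⟨hU, hW⟩, hR⟩ := h
  have hU' : ∀ l ∈ U, l < tbl.nl := fun l hl => Nat.le_of_ble_eq_true (hU l hl)
  have hW' : ∀ l ∈ W, l < tbl.nl := fun l hl => Nat.le_of_ble_eq_true (hW l hl)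
  apply card_eq.2
  apply inv_injective
  refine Equiv.ext fun i => Fin.ext ?_
  rw [rep.hom_inv_apply nodup hU', rep.hom_inv_apply nodup hW']
  exact Nat.eq_of_beq_eq_true (allRange_spec hR i.val (Nat.zero_le _) (by simpa [tbl] using i.2))

theorem V_append (U W : List ℕ) : V (U ++ W) = V U * V W := evalWord_append _ _ _

theorem V_reverse (U : List ℕ) (h : U.all (fun l => Nat.blt l 5) = true) :
    V U.reverse = (V U)⁻¹ := by
  induction U with
  | nil => simp [V, evalWord]
  | cons l ls ih =>
    rw [List.all_cons, Bool.and_eq_true] at h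
    have hl : l < pres.gens.length := Nat.le_of_ble_eq_true h.1
    have hsq : pres.val l * pres.val l = 1 := by
      rw [InvPres.val, letterVal_of_lt _ _ hl]; exact pres.sq_val _
    rw [List.reverse_cons, V_append, ih h.2]
    simp [V, evalWord, inv_eq_of_mul_eq_one_right hsq]

end Cfsg.Agent.J2Mult70
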